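import Cfsg.Agent.PrimeGraphBC.Crit
import Cfsg.Agent.Symp.Elements

/-!
Elements of order `rs` in `PSp_{2n}` and `PΩ_{2n+1}`.
-/

set_option autoImplicit false
set_option linter.unusedSectionVars false

namespace CfsgLib.PrimeGraphBC

open Matrix QuadraticMap
open scoped Classical

variable {F : Type*} [Field F] [Fintype F]

theorem orderOf_eq_mul_primes {G : Type*} [Monoid G] {x : G} {r s : ℕ} (hr : r.Prime) (hs : s.Prime) (hrs : r ≠ s)
    (h : x ^ (r * s) = 1) (h1 : x ^ r ≠ 1) (h2 : x ^ s ≠ 1) : orderOf x = r * s := by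
  have hd := orderOf_dvd_of_pow_eq_one h
  obtain ⟨a, b, ha, hb, hab⟩ := Nat.dvd_mul.1 hd
  rcases (Nat.dvd_prime hr).1 ha with rfl | rfl
  · rw [one_mul] at hab; exact absurd (orderOf_dvd_iff_pow_eq_one.1 (hab ▸ hb)) h2
  · rcases (Nat.dvd_prime hs).1 hb with rfl | rfl
    · rw [mul_one] at hab; exact absurd (orderOf_dvd_iff_pow_eq_one.1 (dvd_of_eq hab.symm)) h1
    · exact hab.symm

/-! ### The symplectic side -/

theorem sp_val_pow {n : ℕ} (g : Matrix.symplecticGroup (Fin n) F) (k : ℕ) : (g ^ k).1 = g.1 ^ k := rfl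

theorem psp_mk_eq_one {n : ℕ} (hn : 0 < n) (g : Matrix.symplecticGroup (Fin n) F) :
    (QuotientGroup.mk g : Cfsg.PSp n F) = 1 ↔ (g.1 = 1 ∨ g.1 = -1) :=
  (QuotientGroup.eq_one_iff g).trans (CfsgLib.Symp.mem_center_iff hn g)

theorem mem_range_psp_of_odd {n N : ℕ} (hn : 0 < n) (hN : Odd N) :
    N ∈ Set.range (orderOf : Cfsg.PSp n F → ℕ) ↔ El F n N := by
  constructor
  · rintro ⟨x, rfl⟩
    obtain ⟨g, rfl⟩ := QuotientGroup.mk_surjective x
    refine ⟨g ^ 2, Nat.dvd_antisymm (orderOf_dvd_of_pow_eq_one ?_) ?_⟩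
    · rw [← pow_mul, mul_comm, pow_mul]
      have h := (psp_mk_eq_one hn _).1 ((QuotientGroup.mk_pow _ g _).trans
        (pow_orderOf_eq_one (QuotientGroup.mk g : Cfsg.PSp n F)))
      refine Subtype.ext ?_
      rw [sp_val_pow, sp_val_pow]
      rcases h with h | h <;> rw [sp_val_pow] at h <;> rw [h] <;> simp
    · have h1 : orderOf ((QuotientGroup.mk g : Cfsg.PSp n F) ^ 2) = orderOf (QuotientGroup.mk g : Cfsg.PSp n F) :=
        (Nat.Coprime.orderOf_pow (Nat.coprime_two_right.2 hN))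
      rw [← h1, ← QuotientGroup.mk_pow]
      exact orderOf_map_dvd (QuotientGroup.mk' _) (g ^ 2)
  · rintro ⟨g, rfl⟩
    refine ⟨QuotientGroup.mk g, Nat.dvd_antisymm (orderOf_map_dvd (QuotientGroup.mk' _) g) ?_⟩
    have h := (psp_mk_eq_one hn _).1 ((QuotientGroup.mk_pow _ g _).trans
      (pow_orderOf_eq_one (QuotientGroup.mk g : Cfsg.PSp n F)))
    refine (Nat.coprime_two_right.2 hN).dvd_of_dvd_mul_right (orderOf_dvd_of_pow_eq_one (Subtype.ext ?_))
    rw [pow_mul, sp_val_pow]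
    rcases h with h | h <;> rw [h] <;> simp

theorem el_ps {p n s : ℕ} [Fact p.Prime] [CharP F p] (hn : 2 ≤ n) (hs : s.Prime) (hsp : s ≠ p)
    (h : El F (n - 1) s) : El F n (p * s) := by
  obtain ⟨x, hx⟩ := h
  have hpp : p.Prime := Fact.out
  obtain ⟨u, hu⟩ := CfsgLib.Symp.exists_unipotent (F := F) p 1 1 le_rfl (by
    have := hpp.two_le; rw [pow_one]; omega) (fun j hj => by rw [show j = 0 by omega]; norm_num)
  refine ⟨CfsgLib.Symp.spBlock F (show 1 + (n - 1) = n by omega) (u, x), ?_⟩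
  rw [orderOf_injective _ (CfsgLib.Symp.spBlock_injective _), Prod.orderOf_mk, hu, hx, pow_one]
  exact ((Nat.coprime_primes hpp hs).2 (Ne.symm hsp)).lcm_eq_mul

theorem psp_two_of_el (h2 : (2 : F) ≠ 0) {n s : ℕ} (hn : 2 ≤ n) (hs : s.Prime) (hs2 : s ≠ 2) (h : El F (n - 1) s) :
    2 * s ∈ Set.range (orderOf : Cfsg.PSp n F → ℕ) := by
  obtain ⟨x, hx⟩ := h
  have hne : (-1 : Matrix (Fin 1 ⊕ Fin 1) (Fin 1 ⊕ Fin 1) F) ≠ 1 := fun e => by
    have := congrFun (congrFun e (Sum.inl 0)) (Sum.inl 0)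
    simp at this
    exact h2 (by linear_combination -this)
  have hneg : (-1 : Matrix (Fin 1 ⊕ Fin 1) (Fin 1 ⊕ Fin 1) F) ∈ Matrix.symplecticGroup (Fin 1) F :=
    SymplecticGroup.neg_mem (one_mem _)
  obtain ⟨h1n, hh⟩ : ∃ h : 1 + (n - 1) = n, True := ⟨by omega, trivial⟩
  obtain ⟨g, hg⟩ : ∃ g, g = CfsgLib.Symp.spBlock F h1n (⟨_, hneg⟩, x) := ⟨_, rfl⟩
  have hpow : ∀ k, g ^ k = CfsgLib.Symp.spBlock F h1n
      ((⟨-1, hneg⟩ : Matrix.symplecticGroup (Fin 1) F) ^ k, x ^ k) := fun k => by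
    rw [hg, ← map_pow]; rfl
  have hxp : ∀ k, k ≠ 0 → x.1 ^ k = 1 → s ∣ k := fun k _ hk =>
    hx ▸ orderOf_dvd_of_pow_eq_one (Subtype.ext hk)
  refine ⟨QuotientGroup.mk g, orderOf_eq_mul_primes Nat.prime_two hs (Ne.symm hs2) ?_ ?_ ?_⟩
  · rw [← QuotientGroup.mk_pow, psp_mk_eq_one (by omega), hpow, CfsgLib.Symp.spBlock_eq_one_iff]
    left
    refine ⟨?_, ?_⟩
    · rw [sp_val_pow, pow_mul, neg_one_sq, one_pow]
    · show (x ^ (2 * s)).1 = 1
      rw [mul_comm, pow_mul, ← hx, pow_orderOf_eq_one, one_pow]; rfl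
  · rw [← QuotientGroup.mk_pow, Ne, psp_mk_eq_one (by omega), hpow, CfsgLib.Symp.spBlock_eq_one_iff,
      CfsgLib.Symp.spBlock_eq_neg_one_iff]
    rintro (⟨h1, h3⟩ | ⟨h1, -⟩)
    · rw [sp_val_pow] at h3
      exact hs2 ((Nat.prime_dvd_prime_iff_eq hs Nat.prime_two).1 (hxp 2 two_ne_zero h3))
    · rw [sp_val_pow, neg_one_sq] at h1
      exact hne h1.symm
  · rw [← QuotientGroup.mk_pow, Ne, psp_mk_eq_one (by omega), hpow, CfsgLib.Symp.spBlock_eq_one_iff,
      CfsgLib.Symp.spBlock_eq_neg_one_iff]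
    have hso : Odd s := hs.odd_of_ne_two hs2
    rintro (⟨h1, -⟩ | ⟨-, h3⟩)
    · rw [sp_val_pow, hso.neg_one_pow] at h1
      exact hne h1
    · rw [← hx, pow_orderOf_eq_one] at h3
      have := congrFun (congrFun h3 (Sum.inl ⟨0, by omega⟩)) (Sum.inl ⟨0, by omega⟩)
      simp at this
      exact h2 (by linear_combination this)

theorem psp_two_of_ws (h2 : (2 : F) ≠ 0) {n s : ℕ} (hn : 0 < n) (hs : s.Prime) (hs2 : s ≠ 2) (h : WS F n s) :
    2 * s ∈ Set.range (orderOf : Cfsg.PSp n F → ℕ) := by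
  obtain ⟨x, w, hx, hc, hw⟩ := h
  have hxs : x.1 ^ s = 1 := by rw [← sp_val_pow, ← hx, pow_orderOf_eq_one]; rfl
  have hpow : ∀ k, (x * w) ^ k = x ^ k * w ^ k := fun k => Commute.mul_pow hc k
  have hso : Odd s := hs.odd_of_ne_two hs2
  refine ⟨QuotientGroup.mk (x * w), orderOf_eq_mul_primes Nat.prime_two hs (Ne.symm hs2) ?_ ?_ ?_⟩
  · rw [← QuotientGroup.mk_pow, psp_mk_eq_one hn, hpow]
    right
    show (x ^ (2 * s)).1 * (w ^ (2 * s)).1 = -1
    rw [sp_val_pow, sp_val_pow, pow_mul w.1, pow_two w.1, hw, hso.neg_one_pow, mul_comm 2 s, pow_mul, hxs, one_pow,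
      Matrix.one_mul]
  · rw [← QuotientGroup.mk_pow, Ne, psp_mk_eq_one hn, hpow]
    show ¬ ((x ^ 2).1 * (w ^ 2).1 = 1 ∨ (x ^ 2).1 * (w ^ 2).1 = -1)
    rw [sp_val_pow, sp_val_pow, pow_two w.1, hw, Matrix.mul_neg, Matrix.mul_one]
    intro h
    have h4 : x.1 ^ 4 = 1 := by
      rw [show 4 = 2 * 2 from rfl, pow_mul]
      rcases h with h | h
      · rw [neg_eq_iff_eq_neg.1 h, neg_one_sq]
      · rw [neg_inj.1 h, one_pow]
    have hd : s ∣ 2 * 2 := hx ▸ orderOf_dvd_of_pow_eq_one (Subtype.ext h4)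
    rcases hs.dvd_mul.1 hd with h | h <;> exact hs2 ((Nat.prime_dvd_prime_iff_eq hs Nat.prime_two).1 h)
  · rw [← QuotientGroup.mk_pow, Ne, psp_mk_eq_one hn, hpow]
    show ¬ ((x ^ s).1 * (w ^ s).1 = 1 ∨ (x ^ s).1 * (w ^ s).1 = -1)
    rw [sp_val_pow, sp_val_pow, hxs, Matrix.one_mul]
    intro h
    have h1 : (w.1 ^ s) ^ 2 = 1 := by rcases h with h | h <;> rw [h] <;> simp
    rw [← pow_mul, mul_comm, pow_mul, pow_two, hw, hso.neg_one_pow] at h1
    have := congrFun (congrFun h1 (Sum.inl ⟨0, hn⟩)) (Sum.inl ⟨0, hn⟩)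
    simp at this
    exact h2 (by linear_combination -this)

theorem sl2_eq_neg_one {K : Type*} [Field K] (h2 : (2 : K) ≠ 0) {a : SpecialLinearGroup (Fin 2) K} (ha : a ^ 2 = 1)
    (h1 : a ≠ 1) : (a : Matrix (Fin 2) (Fin 2) K) = -1 := by
  have hsq : (a : Matrix (Fin 2) (Fin 2) K) * a = 1 := by
    have := congrArg Subtype.val ha
    rw [pow_two] at this
    exact this
  have hinv : a⁻¹ = a := by rw [inv_eq_iff_mul_eq_one, ← pow_two, ha]
  have hadj : Matrix.adjugate (a : Matrix (Fin 2) (Fin 2) K) = a := congrArg Subtype.val hinv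
  rw [Matrix.adjugate_fin_two] at hadj
  have e00 := congrFun (congrFun hadj 0) 0
  have e01 := congrFun (congrFun hadj 0) 1
  have e10 := congrFun (congrFun hadj 1) 0
  simp at e00 e01 e10
  have z01 : (a : Matrix (Fin 2) (Fin 2) K) 0 1 = 0 := (mul_eq_zero.1 (by linear_combination -e01 :
    (2 : K) * (a : Matrix (Fin 2) (Fin 2) K) 0 1 = 0)).resolve_left h2
  have z10 : (a : Matrix (Fin 2) (Fin 2) K) 1 0 = 0 := (mul_eq_zero.1 (by linear_combination -e10 :
    (2 : K) * (a : Matrix (Fin 2) (Fin 2) K) 1 0 = 0)).resolve_left h2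
  have hd := a.2
  rw [Matrix.det_fin_two, z01, e00] at hd
  rcases mul_self_eq_one_iff.1 (by linear_combination hd :
      (a : Matrix (Fin 2) (Fin 2) K) 0 0 * (a : Matrix (Fin 2) (Fin 2) K) 0 0 = 1) with h | h
  · refine absurd (Subtype.ext ?_) h1
    ext i j
    fin_cases i <;> fin_cases j <;> simp [h, z01, z10, e00]
  · ext i j
    fin_cases i <;> fin_cases j <;> simp [h, z01, z10, e00]

theorem ws_of_num (h2 : (2 : F) ≠ 0) {n s : ℕ} (hn : 1 ≤ n) (hs : s.Prime) (hs2 : s ≠ 2) (h : Num F n s) :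
    WS F n s := by
  obtain ⟨M, h4, hsM, hM⟩ := h
  obtain ⟨p, hp⟩ := CharP.exists F
  have : Fact p.Prime := ⟨CharP.char_is_prime F p⟩
  have : NeZero n := ⟨by omega⟩
  let K := FiniteField.Extension F p n
  let b := (Module.finBasis F K).reindex (finCongr (FiniteField.finrank_extension F p n))
  have hcK : Nat.card K = Nat.card F ^ n := FiniteField.natCard_extension F p n
  obtain ⟨z, hz⟩ : ∃ z : SpecialLinearGroup (Fin 2) K, orderOf z = M := by
    rcases hM with rfl | rfl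
    · obtain ⟨w, hw⟩ := IsCyclic.exists_generator (α := Kˣ)
      let f : Kˣ →* SpecialLinearGroup (Fin 2) K :=
        { toFun := fun l => ⟨Matrix.diagonal ![(l : K), ((l⁻¹ : Kˣ) : K)], by
            rw [Matrix.det_diagonal, Fin.prod_univ_two]; simp⟩
          map_one' := Subtype.ext (by ext i j; fin_cases i <;> fin_cases j <;> simp)
          map_mul' := fun l m => Subtype.ext (by
            show Matrix.diagonal _ = Matrix.diagonal _ * Matrix.diagonal _
            rw [Matrix.diagonal_mul_diagonal]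
            congr 1; ext i; fin_cases i <;> simp [mul_comm]) }
      have hf : Function.Injective f := fun l m h => Units.ext (by
        have := congrArg (fun A : SpecialLinearGroup (Fin 2) K => (A : Matrix (Fin 2) (Fin 2) K) 0 0) h
        change Matrix.diagonal _ 0 0 = Matrix.diagonal _ 0 0 at this
        simpa using this)
      exact ⟨f w, by rw [orderOf_injective f hf, orderOf_eq_card_of_forall_mem_zpowers hw, Nat.card_units, hcK]⟩
    · obtain ⟨g, hg⟩ := CfsgLib.Symp.exists_sl2_nonsplit K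
      exact ⟨g, by rw [hg, hcK]⟩
  have hcop : Nat.Coprime 4 s :=
    (Nat.coprime_primes Nat.prime_two hs).2 (Ne.symm hs2) |>.pow_left 2
  obtain ⟨c, hc⟩ := hcop.mul_dvd_of_dvd_of_dvd h4 hsM
  have hM0 : M ≠ 0 := by
    rw [← hz]; exact (orderOf_pos z).ne'
  have hy : orderOf (z ^ c) = 4 * s := by
    rw [orderOf_pow' _ (by rintro rfl; simp at hc; exact hM0 hc), hz, hc, Nat.gcd_mul_left_left, Nat.mul_div_cancel]
    exact Nat.pos_of_ne_zero (by rintro rfl; simp at hc; exact hM0 hc)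
  obtain ⟨y, hy'⟩ : ∃ y, y = z ^ c := ⟨_, rfl⟩
  rw [← hy'] at hy
  have h2s : (y ^ (2 * s) : SpecialLinearGroup (Fin 2) K) ≠ 1 := by
    intro h
    have := Nat.le_of_dvd (by have := hs.pos; omega) (orderOf_dvd_of_pow_eq_one h)
    rw [hy] at this
    have := hs.pos
    omega
  have hK2 : (2 : K) ≠ 0 := fun h => h2 ((algebraMap F K).injective (by rw [map_ofNat, map_zero, h]))
  have hneg := sl2_eq_neg_one hK2 (a := y ^ (2 * s)) (by
    rw [← pow_mul, show 2 * s * 2 = 4 * s by ring, ← hy, pow_orderOf_eq_one]) h2s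
  let R := CfsgLib.Symp.restrictHom (F := F) b
  refine ⟨R (y ^ 4), R (y ^ s), ?_, by rw [← map_mul, ← map_mul, ← pow_add, ← pow_add, Nat.add_comm], ?_⟩
  · rw [orderOf_injective R (CfsgLib.Symp.restrictHom_injective b), orderOf_pow' _ (by norm_num), hy,
      Nat.gcd_mul_right_left, Nat.mul_div_cancel_left _ (by norm_num)]
  · show (R (y ^ s) * R (y ^ s)).1 = -1
    rw [← map_mul, ← pow_add, ← two_mul]
    show CfsgLib.Symp.restrictFun b ((y ^ (2 * s) : SpecialLinearGroup (Fin 2) K) : Matrix (Fin 2) (Fin 2) K) = -1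
    rw [hneg, CfsgLib.Symp.restrictFun, ← Matrix.fromBlocks_one, Matrix.fromBlocks_neg]
    have hG := CfsgLib.Symp.isUnit_traceMatrix b
    simp [Matrix.mul_nonsing_inv _ hG]

theorem psp_two_imp (h2 : (2 : F) ≠ 0) {p n s : ℕ} [Fact p.Prime] [CharP F p] (hn : 1 ≤ n) (hs : s.Prime)
    (hs2 : s ≠ 2) (hsp : s ≠ p) (h : 2 * s ∈ Set.range (orderOf : Cfsg.PSp n F → ℕ)) :
    El F (n - 1) s ∨ Num F n s := by
  obtain ⟨q, hq⟩ := h
  obtain ⟨g, rfl⟩ := QuotientGroup.mk_surjective q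
  have hsF : (s : F) ≠ 0 := natCast_ne_zero_of_coprime (p := p)
    fun h => hsp ((Nat.prime_dvd_prime_iff_eq (Fact.out : p.Prime) hs).1 h).symm
  have hnd : ∀ k, ¬ (2 * s) ∣ k → ¬ ((g ^ k).1 = 1 ∨ (g ^ k).1 = -1) := fun k hk h => hk (by
    rw [← hq]; apply orderOf_dvd_of_pow_eq_one
    rw [← QuotientGroup.mk_pow]; exact (psp_mk_eq_one hn _).2 h)
  have h2s := (psp_mk_eq_one hn _).1 ((QuotientGroup.mk_pow _ g (2 * s)).trans
    (by rw [← hq]; exact pow_orderOf_eq_one _))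
  obtain ⟨x, hx⟩ : ∃ x, x = g ^ 4 := ⟨_, rfl⟩
  obtain ⟨t, ht⟩ : ∃ t, t = g ^ s := ⟨_, rfl⟩
  have hxs : orderOf x = s := by
    have : Fact s.Prime := ⟨hs⟩
    refine orderOf_eq_prime (Subtype.ext ?_) fun h => hnd 4 ?_ (Or.inl ?_)
    · rw [hx, ← pow_mul, show 4 * s = 2 * s * 2 by ring, pow_mul, sp_val_pow]
      rcases h2s with h | h <;> rw [h] <;> simp
    · intro hd
      have hd' : s ∣ 2 * 2 := (Dvd.intro_left 2 rfl).trans hd
      rcases hs.dvd_mul.1 hd' with h | h <;> exact hs2 ((Nat.prime_dvd_prime_iff_eq hs Nat.prime_two).1 h)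
    · rw [← hx, h]; rfl
  have hc : x * t = t * x := by rw [hx, ht, ← pow_add, ← pow_add, Nat.add_comm]
  have htt : t.1 * t.1 = 1 ∨ t.1 * t.1 = -1 := by
    rw [ht, show (g ^ s).1 * (g ^ s).1 = (g ^ (2 * s)).1 by rw [two_mul, pow_add]; rfl]; exact h2s
  rcases htt with htt | htt
  · obtain ⟨φ⟩ := sympl_equiv (F := F) n
    let U : Matrix.symplecticGroup (Fin n) F →* GL (Fin n ⊕ Fin n) F :=
      MonoidHom.toHomUnits (Submonoid.subtype (Matrix.symplecticGroup (Fin n) F))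
    have hUm : ∀ a, U a ∈ pres (Matrix.J (Fin n) F) := fun a => mem_pres.2 (SymplecticGroup.mem_iff'.1 a.2)
    have ht' : ¬ (t.1 = 1 ∨ t.1 = -1) := ht ▸ hnd s fun hd => by
      have := Nat.le_of_dvd hs.pos hd; have := hs.pos; omega
    refine Or.inl (el_pred_of_invol h2 (K := Matrix.J (Fin n) F) (Matrix.J_transpose _ _)
      (by rw [det_J]; exact isUnit_one) (by simp) (hUm x) (hUm t) (by rw [← map_mul, ← map_mul, hc]) hs ?_ htt
      (fun h => ht' (Or.inl h)) (fun h => ht' (Or.inr h)))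
    rw [orderOf_injective U (fun a b h => Subtype.ext (congrArg Units.val h :)), hxs]
  · rcases ws_imp h2 (hs.odd_of_ne_two hs2) hsF ⟨x, t, hxs, hc, htt⟩ with h | h
    · exact Or.inl h
    · exact do_imp h2 hn hs (hs.odd_of_ne_two hs2) hsp h

/-! ### The orthogonal side -/

theorem exists_std (h2 : (2 : F) ≠ 0) (n : ℕ) :
    ∃ B : Matrix (Unit ⊕ (Fin n ⊕ Fin n)) (Unit ⊕ (Fin n ⊕ Fin n)) F, Bᵀ = B ∧ IsUnit B.det ∧
      Cfsg.isometryGroup F (Cfsg.quadFormOdd n F) = pres B := by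
  refine ⟨Matrix.fromBlocks (Matrix.diagonal fun _ => 2) 0 0 (Matrix.fromBlocks 0 1 1 0), ?_, ?_, ?_⟩
  · simp [Matrix.fromBlocks_transpose]
  · refine fromBlocks_unit (isUnit_iff_ne_zero.2 (by simp [h2])) ?_
    have e : (Matrix.fromBlocks (0 : Matrix (Fin n) (Fin n) F) 1 1 0) =
        Matrix.J (Fin n) F * Matrix.fromBlocks (1 : Matrix (Fin n) (Fin n) F) 0 0 (-1) := by
      simp [Matrix.J, Matrix.fromBlocks_multiply]
    rw [e, Matrix.det_mul, det_J, one_mul, Matrix.det_fromBlocks_zero₁₂, Matrix.det_one, one_mul, Matrix.det_neg,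
      Matrix.det_one, mul_one]
    exact isUnit_one.neg.pow _
  · rw [← CfsgLib.Forms.coe_quadOdd, isometryGroup_eq h2]
    intro u v
    rw [CfsgLib.Forms.coe_quadOdd, CfsgLib.Forms.polar_odd]
    simp [Matrix.fromBlocks_mulVec, dotProduct, Fintype.sum_sum_type, Finset.sum_add_distrib, Matrix.mulVec_diagonal,
      Function.comp_def, mul_comm, add_comm, mul_left_comm]

/-- An element of order `N` in the derived group of some orthogonal group of dimension `2n+1`. -/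
def OmEl (F : Type*) [Field F] (n N : ℕ) : Prop :=
  ∃ (ι : Type) (_ : Fintype ι) (_ : DecidableEq ι) (G : Matrix ι ι F),
    Fintype.card ι = n + n + 1 ∧ Gᵀ = G ∧ IsUnit G.det ∧ ∃ g : ↥(pres G), g ∈ commutator ↥(pres G) ∧ orderOf g = N

theorem mem_range_pomega_iff (h2 : (2 : F) ≠ 0) {n : ℕ} (hn : 2 ≤ n) (N : ℕ) :
    N ∈ Set.range (orderOf : Cfsg.POmega F (Cfsg.quadFormOdd n F) → ℕ) ↔ OmEl F n N := by
  have hQ := CfsgLib.Forms.nondegenerate_quadOdd (F := F) n h2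
  have hodd : Odd (Fintype.card (Unit ⊕ (Fin n ⊕ Fin n))) := ⟨n, by simp; omega⟩
  have hc1 := CfsgLib.OrthOrder.card_center_eq_one hQ (by simp; omega)
    (CfsgLib.OrthOrder.neg_one_notMem_of_odd h2 hodd)
  rw [CfsgLib.Forms.coe_quadOdd, Subgroup.card_eq_one] at hc1
  let e : Cfsg.POmega F (Cfsg.quadFormOdd n F) ≃* Cfsg.Omega F (Cfsg.quadFormOdd n F) :=
    (QuotientGroup.quotientMulEquivOfEq hc1).trans QuotientGroup.quotientBot
  obtain ⟨B, hBs, hBu, hB⟩ := exists_std h2 n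
  constructor
  · rintro ⟨x, rfl⟩
    refine ⟨Unit ⊕ (Fin n ⊕ Fin n), inferInstance, inferInstance, B, by simp; omega, hBs, hBu,
      MulEquiv.subgroupCongr hB (e x).1, mem_commutator_map _ (e x).2, ?_⟩
    rw [MulEquiv.orderOf_eq, Subgroup.orderOf_coe, MulEquiv.orderOf_eq]
  · rintro ⟨ι, _, _, G, hc, hGs, hGu, g, hg, rfl⟩
    obtain ⟨d, hd⟩ : ∃ d, d = B.det * G.det := ⟨_, rfl⟩
    have hd0 : d ≠ 0 := hd ▸ mul_ne_zero hBu.ne_zero hGu.ne_zero
    obtain ⟨f⟩ : Nonempty (ι ≃ Unit ⊕ (Fin n ⊕ Fin n)) :=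
      ⟨Fintype.equivOfCardEq (by simp [hc]; omega)⟩
    obtain ⟨a, ha, hcon⟩ := CfsgLib.SignedClasses.congr_symm h2 (B := B.submatrix f f) (B' := d • G)
      (by rw [Matrix.transpose_submatrix, hBs]) (by rwa [Matrix.det_submatrix_equiv_self])
      (by rw [Matrix.transpose_smul, hGs]) (by
        rw [Matrix.det_smul]; exact ((isUnit_iff_ne_zero.2 hd0).pow _).mul hGu)
      (by
        rw [Matrix.det_submatrix_equiv_self, Matrix.det_smul, hc]
        exact ⟨d ^ (n + 1), by rw [hd]; ring⟩)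
    obtain ⟨φ⟩ := pres_equiv_congr (G := G) (B := B) f a ha hd0 hcon
    let ψ := φ.trans (MulEquiv.subgroupCongr hB).symm
    refine ⟨e.symm ⟨ψ g, mem_commutator_map ψ hg⟩, ?_⟩
    rw [MulEquiv.orderOf_eq, ← Subgroup.orderOf_coe, MulEquiv.orderOf_eq]

theorem omel_of_odd (h2 : (2 : F) ≠ 0) {n : ℕ} (hn : 1 ≤ n) {ι : Type} [Fintype ι] [DecidableEq ι] {G : Matrix ι ι F}
    (hc : Fintype.card ι = n + n + 1) (hGs : Gᵀ = G) (hGu : IsUnit G.det) (g : ↥(pres G)) (hg : Odd (orderOf g)) :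
    OmEl F n (orderOf g) :=
  ⟨ι, inferInstance, inferInstance, G, hc, hGs, hGu, g,
    odd_mem_of_sq_mem (sq_mem_commutator h2 hGs hGu (by omega)) hg, rfl⟩

/-- The form `x z + y²` on three coordinates, with a unipotent element. -/
theorem exists_three (h2 : (2 : F) ≠ 0) (p : ℕ) [Fact p.Prime] [CharP F p] (hp : p ≠ 2) :
    ∃ G : Matrix (Fin 3) (Fin 3) F, Gᵀ = G ∧ IsUnit G.det ∧ ∃ g : ↥(pres G), orderOf g = p := by
  obtain ⟨c, hc⟩ : ∃ c : F, 2 * c = 1 := ⟨2⁻¹, mul_inv_cancel₀ h2⟩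
  let G : Matrix (Fin 3) (Fin 3) F := !![0, 0, 1; 0, 1, 0; 1, 0, 0]
  let U : Matrix (Fin 3) (Fin 3) F := !![1, -1, -c; 0, 1, 1; 0, 0, 1]
  have hU : Uᵀ * G * U = G := by
    ext i j
    fin_cases i <;> fin_cases j <;> simp [U, G, Matrix.mul_apply, Fin.sum_univ_three] <;> linear_combination -hc
  have h3 : (U - 1) ^ 3 = 0 := by
    ext i j
    fin_cases i <;> fin_cases j <;> simp [U, pow_succ, Matrix.mul_apply, Fin.sum_univ_three]
  have hpp : p.Prime := Fact.out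
  have hUp : U ^ p = 1 := by
    rw [← sub_eq_zero, ← one_pow (M := Matrix (Fin 3) (Fin 3) F) p, ← sub_pow_char_of_commute _ (Commute.one_right U),
      pow_eq_zero_of_le (by have := hpp.two_le; omega) h3]
  refine ⟨G, ?_, ?_, ⟨Units.ofPowEqOne U p hUp hpp.ne_zero, hU⟩, orderOf_eq_prime (Subtype.ext (Units.ext ?_))
    fun h => ?_⟩
  · ext i j
    fin_cases i <;> fin_cases j <;> simp [G]
  · rw [Matrix.det_fin_three]; simp [G]
  · exact (congrArg (fun u : GL (Fin 3) F => u.1) (SubmonoidClass.coe_pow _ _)).trans hUp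
  · have := congrFun (congrFun (congrArg (fun u : ↥(pres G) => u.1.1) h) 1) 2
    simp [U] at this

theorem omel_ps (h2 : (2 : F) ≠ 0) {p n s : ℕ} [Fact p.Prime] [CharP F p] (hp : p ≠ 2) (hn : 2 ≤ n) (hs : s.Prime)
    (hs2 : s ≠ 2) (hsp : s ≠ p) (h : El F (n - 1) s) : OmEl F n (p * s) := by
  have hpp : p.Prime := Fact.out
  obtain ⟨G, hGs, hGu, u, hu⟩ := exists_three h2 p hp
  obtain ⟨H, hHs, hHu, x, hx⟩ := exists_sym_of_el h (hs.odd_of_ne_two hs2)
    (natCast_ne_zero_of_coprime (p := p) fun h => hsp ((Nat.prime_dvd_prime_iff_eq hpp hs).1 h).symm)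
  have hord : orderOf (blockHom G H (u, x)) = p * s := by
    rw [orderOf_blockHom, hu, hx]; exact ((Nat.coprime_primes hpp hs).2 (Ne.symm hsp)).lcm_eq_mul
  rw [← hord]
  exact omel_of_odd h2 (by omega) (by simp; omega) (fromBlocks_symm hGs hHs) (fromBlocks_unit hGu hHu) _
    (by rw [hord]; exact (hpp.odd_of_ne_two hp).mul (hs.odd_of_ne_two hs2))

theorem omel_two_of_block (h2 : (2 : F) ≠ 0) {n s : ℕ} (hs : s.Prime) (hs2 : s ≠ 2) {κ : Type} [Fintype κ]
    [DecidableEq κ] {H : Matrix κ κ F} (hκ : 3 + Fintype.card κ = n + n + 1) (hHs : Hᵀ = H) (hHu : IsUnit H.det)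
    (x : ↥(pres H)) (hx : orderOf x = s) : OmEl F n (2 * s) := by
  let I3 : Matrix (Fin 3) (Fin 3) F := 1
  let R : Matrix (Fin 3) (Fin 3) F := !![0, -1, 0; 1, 0, 0; 0, 0, 1]
  have hR4 : R ^ 4 = 1 := by
    ext i j
    fin_cases i <;> fin_cases j <;> simp [R, pow_succ, Matrix.mul_apply, Fin.sum_univ_three]
  let r : ↥(pres I3) := ⟨Units.ofPowEqOne R 4 hR4 four_ne_zero, by
    show Rᵀ * I3 * R = I3
    ext i j
    fin_cases i <;> fin_cases j <;> simp [R, I3, Matrix.mul_apply, Fin.sum_univ_three]⟩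
  have hr2 : orderOf (r ^ 2) = 2 := by
    refine orderOf_eq_prime ?_ fun h => ?_
    · rw [← pow_mul]; exact Subtype.ext (Units.ext hR4)
    · have h' : R ^ 2 = 1 := congrArg (fun u : ↥(pres I3) => u.1.1) h
      have := congrFun (congrFun h' 0) 0
      simp [R, pow_succ, Matrix.mul_apply, Fin.sum_univ_three] at this
      exact h2 (by linear_combination -this)
  have hsym := fromBlocks_symm (transpose_one : I3ᵀ = I3) hHs
  have hu := fromBlocks_unit (G₁ := I3) (by simp [I3]) hHu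
  have hsq := sq_mem_commutator h2 hsym hu (by simp; omega)
  refine ⟨Fin 3 ⊕ κ, inferInstance, inferInstance, Matrix.fromBlocks I3 0 0 H, by simp; omega, hsym, hu,
    blockHom I3 H (r, 1) ^ 2 * blockHom I3 H (1, x), mul_mem (hsq _) (odd_mem_of_sq_mem hsq ?_), ?_⟩
  · rw [orderOf_blockHom, orderOf_one, Nat.lcm_one_left, hx]; exact hs.odd_of_ne_two hs2
  · rw [← map_pow, ← map_mul, Prod.pow_mk, one_pow, Prod.mk_mul_mk, mul_one, one_mul, orderOf_blockHom, hr2, hx]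
    exact ((Nat.coprime_primes Nat.prime_two hs).2 (Ne.symm hs2)).lcm_eq_mul

theorem omel_two_of_el (h2 : (2 : F) ≠ 0) {p n s : ℕ} [Fact p.Prime] [CharP F p] (hn : 2 ≤ n) (hs : s.Prime)
    (hs2 : s ≠ 2) (hsp : s ≠ p) (h : El F (n - 1) s) : OmEl F n (2 * s) := by
  obtain ⟨H, hHs, hHu, x, hx⟩ := exists_sym_of_el h (hs.odd_of_ne_two hs2)
    (natCast_ne_zero_of_coprime (p := p) fun h => hsp ((Nat.prime_dvd_prime_iff_eq Fact.out hs).1 h).symm)
  exact omel_two_of_block h2 hs hs2 (by simp; omega) hHs hHu x hx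

theorem omel_two_self (h2 : (2 : F) ≠ 0) {p n : ℕ} [Fact p.Prime] [CharP F p] (hp : p ≠ 2) (hn : 3 ≤ n) :
    OmEl F n (2 * p) := by
  obtain ⟨G, hGs, hGu, u, hu⟩ := exists_three h2 p hp
  refine omel_two_of_block h2 Fact.out hp (κ := Fin 3 ⊕ Fin (n + n - 5)) (by simp; omega)
    (fromBlocks_symm hGs (transpose_one)) (fromBlocks_unit hGu (by simp)) (blockHom G 1 (u, 1)) ?_
  rw [orderOf_blockHom, hu, orderOf_one, Nat.lcm_one_right]

theorem omel_two_of_do (h2 : (2 : F) ≠ 0) {n s : ℕ} (hn : 1 ≤ n) (hs : s.Prime) (hs2 : s ≠ 2) (h : DO F n s) :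
    OmEl F n (2 * s) := by
  obtain ⟨H, hHs, hHu, hsq, x, hx⟩ := h
  obtain ⟨a, ha, hcon⟩ := CfsgLib.SignedClasses.congr_symm h2 (B := (1 : Matrix (Fin n ⊕ Fin n) (Fin n ⊕ Fin n) F))
    (B' := H) transpose_one (by simp) hHs hHu (by simpa using hsq)
  obtain ⟨φ⟩ := pres_equiv_congr (G := H) (B := (1 : Matrix (Fin n ⊕ Fin n) (Fin n ⊕ Fin n) F)) (Equiv.refl _) a ha
    one_ne_zero (by rw [one_smul]; simpa using hcon)
  let J := Matrix.J (Fin n) F
  have hJJ : J ^ 4 = 1 := by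
    rw [show 4 = 2 * 2 from rfl, pow_mul, pow_two J, Matrix.J_squared, neg_one_sq]
  let j : ↥(pres (1 : Matrix (Fin n ⊕ Fin n) (Fin n ⊕ Fin n) F)) := ⟨Units.ofPowEqOne J 4 hJJ four_ne_zero, by
    show Jᵀ * 1 * J = 1
    rw [Matrix.mul_one, Matrix.J_transpose, Matrix.neg_mul, Matrix.J_squared, neg_neg]⟩
  have hj2 : (j ^ 2).1.1 = -1 := (pow_two J).trans (Matrix.J_squared _ _)
  have hj : orderOf (j ^ 2) = 2 := by
    refine orderOf_eq_prime ?_ fun h => ?_
    · rw [← pow_mul]; exact Subtype.ext (Units.ext hJJ)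
    · have h' : (j ^ 2).1.1 = 1 := by rw [h]; rfl
      rw [hj2] at h'
      have := congrFun (congrFun h' (Sum.inl ⟨0, hn⟩)) (Sum.inl ⟨0, hn⟩)
      simp at this
      exact h2 (by linear_combination -this)
  obtain ⟨y, hy⟩ : ∃ y, y = φ x := ⟨_, rfl⟩
  have hys : orderOf y = s := by rw [hy, MulEquiv.orderOf_eq, hx]
  have hcm : Commute (j ^ 2) y := Subtype.ext (Units.ext (by
    show (j ^ 2).1.1 * y.1.1 = y.1.1 * (j ^ 2).1.1
    rw [hj2, Matrix.neg_mul, Matrix.mul_neg, Matrix.one_mul, Matrix.mul_one]))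
  have hsym := fromBlocks_symm (transpose_one : (1 : Matrix (Fin n ⊕ Fin n) (Fin n ⊕ Fin n) F)ᵀ = 1)
    (transpose_one : (1 : Matrix (Fin 1) (Fin 1) F)ᵀ = 1)
  have hu := fromBlocks_unit (G₁ := (1 : Matrix (Fin n ⊕ Fin n) (Fin n ⊕ Fin n) F))
    (G₂ := (1 : Matrix (Fin 1) (Fin 1) F)) (by simp) (by simp)
  have hsq' := sq_mem_commutator h2 hsym hu (by simp; omega)
  refine ⟨(Fin n ⊕ Fin n) ⊕ Fin 1, inferInstance, inferInstance, Matrix.fromBlocks 1 0 0 1, by simp, hsym, hu,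
    blockHom 1 1 (j, 1) ^ 2 * blockHom 1 1 (y, 1), mul_mem (hsq' _) (odd_mem_of_sq_mem hsq' ?_), ?_⟩
  · rw [orderOf_blockHom, orderOf_one, Nat.lcm_one_right, hys]; exact hs.odd_of_ne_two hs2
  · rw [← map_pow, ← map_mul, Prod.pow_mk, one_pow, Prod.mk_mul_mk, mul_one, orderOf_blockHom, orderOf_one,
      Nat.lcm_one_right, hcm.orderOf_mul_eq_mul_orderOf_of_coprime, hj, hys]
    rw [hj, hys]; exact (Nat.coprime_primes Nat.prime_two hs).2 (Ne.symm hs2)

theorem omel_of_el (h2 : (2 : F) ≠ 0) {n N : ℕ} (hn : 1 ≤ n) (hodd : Odd N) (hN : (N : F) ≠ 0) (h : El F n N) :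
    OmEl F n N := by
  obtain ⟨H, hHs, hHu, x, hx⟩ := exists_sym_of_el h hodd hN
  have hord : orderOf (blockHom H (1 : Matrix (Fin 1) (Fin 1) F) (x, 1)) = N := by
    rw [orderOf_blockHom, orderOf_one, Nat.lcm_one_right, hx]
  rw [← hord]
  exact omel_of_odd h2 hn (by simp) (fromBlocks_symm hHs transpose_one) (fromBlocks_unit hHu (by simp)) _
    (by rwa [hord])

theorem el_of_omel (h2 : (2 : F) ≠ 0) {n N : ℕ} (hodd : Odd N) (hN : (N : F) ≠ 0) (h : OmEl F n N) : El F n N := by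
  obtain ⟨ι, _, _, G, hc, hGs, hGu, g, -, rfl⟩ := h
  obtain ⟨k, a, hka, hel, -⟩ := el_of_pres h2 hGu (Or.inl hGs) g hodd hN
  exact hel.mono (by omega)

theorem isSquare_prod_of_diag_mem (h2 : (2 : F) ≠ 0) {ι : Type} [Fintype ι] [DecidableEq ι] {d : ι → F}
    (hd : ∀ i, d i ≠ 0) (hdim : 2 ≤ Fintype.card ι) (S : Finset ι) (g : ↥(pres (Matrix.diagonal d)))
    (hg : g.1.1 = Matrix.diagonal fun i => if i ∈ S then (-1 : F) else 1)
    (hmem : g ∈ commutator ↥(pres (Matrix.diagonal d))) : IsSquare (∏ i ∈ S, d i) := by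
  have hD : (Matrix.diagonal d)ᵀ = Matrix.diagonal d := Matrix.diagonal_transpose d
  have hDu : IsUnit (Matrix.diagonal d).det := by
    rw [Matrix.det_diagonal]; exact isUnit_iff_ne_zero.2 (Finset.prod_ne_zero_iff.2 fun i _ => hd i)
  have hE := pres_eq_isometryGroup h2 hD
  have hval : ∀ i, formQ (Matrix.diagonal d) (Pi.single i 1) = d i := fun i => by
    simp [formQ_apply, Matrix.mulVec_single]
  have hrefl : ∀ i, Cfsg.reflectionMatrix ⇑(formQ (Matrix.diagonal d)) (Pi.single i 1) =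
      Matrix.diagonal fun j => if j = i then (-1 : F) else 1 := fun i => by
    ext a b
    rw [Cfsg.reflectionMatrix, Matrix.sub_apply, Matrix.smul_apply, Matrix.vecMulVec_apply, hval, Cfsg.polarVec,
      ← polar_formQ hD]
    have hpol : Pi.single i (1 : F) ⬝ᵥ (((2 : F) • Matrix.diagonal d) *ᵥ Pi.single b 1) = if i = b then 2 * d i else 0 := by
      by_cases hib : i = b
      · subst hib; simp
      · simp [hib, Matrix.diagonal_apply_ne _ hib]
    rw [hpol]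
    by_cases ha : a = i
    · subst ha
      by_cases hb : a = b
      · subst hb
        simp only [Matrix.one_apply_eq, Pi.single_eq_same, if_pos, Matrix.diagonal_apply_eq, smul_eq_mul, one_mul]
        field_simp [hd a]
        ring
      · simp [hb, Matrix.one_apply_ne hb]
    · by_cases hab : a = b
      · subst hab; simp [ha]
      · simp [ha, hab]
  have hl : ∀ l : List ι, l.Nodup →
      (l.map fun i => Cfsg.reflectionMatrix ⇑(formQ (Matrix.diagonal d)) (Pi.single i 1)).prod =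
        Matrix.diagonal fun j => if j ∈ l then (-1 : F) else 1 := by
    intro l
    induction l with
    | nil => intro _; simp [Matrix.diagonal_one]
    | cons i l ih =>
      intro hnd
      rw [List.nodup_cons] at hnd
      rw [List.map_cons, List.prod_cons, ih hnd.2, hrefl, Matrix.diagonal_mul_diagonal]
      congr 1
      ext j
      by_cases hj : j = i
      · subst hj; simp [hnd.1]
      · simp [hj]
  let g' := (MulEquiv.subgroupCongr hE).symm g
  have hg' : g' ∈ Cfsg.Omega F ⇑(formQ (Matrix.diagonal d)) := mem_commutator_map _ hmem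
  have h := (CfsgLib.Forms.mem_Omega_list _ h2 (nondegenerate_formQ h2 hD hDu) hdim g'
    (S.toList.map fun i => Pi.single i (1 : F)) (fun v hv => by
      obtain ⟨i, -, rfl⟩ := List.mem_map.1 hv
      rw [hval]; exact hd i) (by
      rw [List.map_map]
      refine hg.trans ((hl S.toList (Finset.nodup_toList S)).trans ?_).symm
      simp [Finset.mem_toList])).1 hg'
  have h' := h.2
  rw [List.map_map] at h'
  rw [← Finset.prod_map_toList]
  have e : (fun v => formQ (Matrix.diagonal d) v) ∘ (fun i => Pi.single i (1 : F)) = d := funext hval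
  rw [e] at h'
  exact h'

theorem det_eq_one_of_mem_commutator {ι : Type*} [Fintype ι] [DecidableEq ι] {G : Matrix ι ι F} {g : ↥(pres G)}
    (hg : g ∈ commutator ↥(pres G)) : g.1.1.det = 1 := by
  have h := Abelianization.commutator_subset_ker (Matrix.GeneralLinearGroup.det.comp (pres G).subtype) hg
  simpa using congrArg Units.val (MonoidHom.mem_ker.1 h)

/-- A minus-one eigenspace of dimension `2n` inside `Ω_{2n+1}` has square discriminant. -/
theorem omel_two_imp (h2 : (2 : F) ≠ 0) {p n s : ℕ} [Fact p.Prime] [CharP F p] (hn : 1 ≤ n) (hs : s.Prime)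
    (hs2 : s ≠ 2) (hsp : s ≠ p) (h : OmEl F n (2 * s)) : El F (n - 1) s ∨ Num F n s := by
  obtain ⟨ι, _, _, G, hc, hGs, hGu, g, hg, hgo⟩ := h
  have hso := hs.odd_of_ne_two hs2
  have hsF : (s : F) ≠ 0 := natCast_ne_zero_of_coprime (p := p)
    fun h => hsp ((Nat.prime_dvd_prime_iff_eq (Fact.out : p.Prime) hs).1 h).symm
  obtain ⟨t, ht⟩ : ∃ t, t = g ^ s := ⟨_, rfl⟩
  obtain ⟨x, hx⟩ : ∃ x, x = g ^ 2 := ⟨_, rfl⟩
  have htC : t ∈ commutator ↥(pres G) := ht ▸ pow_mem hg s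
  have hto : orderOf t = 2 := by
    rw [ht, orderOf_pow' _ hs.ne_zero, hgo, Nat.gcd_mul_left_left, Nat.mul_div_cancel _ hs.pos]
  have hxo : orderOf x.1 = s := by
    rw [orderOf_val, hx, orderOf_pow' _ two_ne_zero, hgo, Nat.gcd_mul_right_left, Nat.mul_div_cancel_left _ two_pos]
  have hc' : t.1 * x.1 = x.1 * t.1 := by
    rw [ht, hx, SubgroupClass.coe_pow, SubgroupClass.coe_pow, ← pow_add, ← pow_add, Nat.add_comm]
  have htt : t.1 ^ 2 = 1 := by
    rw [← SubgroupClass.coe_pow, ← hto, pow_orderOf_eq_one]; rfl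
  obtain ⟨a, b, M₁, M₂, y, hab, hM₁, hM₂, hu1, hu2, hgM₁, hY, hy, hfix, hyo, hext, hcen⟩ :=
    exists_fix_split hGu x.2 hsF (by rw [← hxo, pow_orderOf_eq_one])
  rw [hxo] at hyo
  obtain ⟨K, hK, hKu, hpres⟩ := exists_alt hu2 (restricted_transpose (Or.inl hGs) M₂) hy hso
    (by rw [← hyo, pow_orderOf_eq_one]) hfix
  obtain ⟨k, hk, hel⟩ := el_of_alt h2 hK hKu ⟨y, hpres y hy rfl⟩
  rw [← orderOf_val, hyo] at hel
  rw [Fintype.card_fin] at hk
  by_cases hkn : k ≤ n - 1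
  · exact Or.inl (hel.mono hkn)
  obtain rfl : a = 1 := by omega
  have hkn' : k = n := by omega
  subst k
  obtain ⟨t₁, t₂, ht₁, ht₂, -, ht₂m, htc⟩ := hcen t.1 t.2 hc'
  have hsq : ∀ {m : ℕ} (M : Matrix ι (Fin m) F) (v : GL (Fin m) F), Function.Injective M.mulVec →
      t.1.1 * M = M * v.1 → v.1 * v.1 = 1 := fun M v hM h => mul_left_inj_of_injective hM (by
    rw [← restrict_mul h h, ← Units.val_mul, ← pow_two, htt, Units.val_one, Matrix.one_mul, Matrix.mul_one])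
  by_cases hp1 : t₂.1 ≠ 1 ∧ t₂.1 ≠ -1
  · exact Or.inl (el_pred_of_invol h2 hK hKu (by rw [Fintype.card_fin, hk]) (hpres y hy rfl) (hpres t₂ ht₂m htc) htc
      hs hyo (hsq M₂ t₂ hM₂ ht₂) hp1.1 hp1.2)
  have ht1v : t₁.1 = 1 ∨ t₁.1 = -1 := by
    have h := congrFun (congrFun (hsq M₁ t₁ hM₁ ht₁) 0) 0
    rw [Matrix.mul_apply, Fin.sum_univ_one, Matrix.one_apply_eq] at h
    rcases mul_self_eq_one_iff.1 h with h | h
    · left; ext i j; fin_cases i; fin_cases j; simpa using h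
    · right; ext i j; fin_cases i; fin_cases j; simpa using h
  -- the block diagonal form of `G` and of `t`
  have hoff : M₁ᵀ * G * M₂ = 0 := by
    have h0 : M₁ᵀ * G * M₂ * y.1 = M₁ᵀ * G * M₂ := by
      calc _ = (x.1.1 * M₁)ᵀ * G * (x.1.1 * M₂) := by rw [hgM₁, hY]; simp only [Matrix.mul_assoc]
        _ = M₁ᵀ * (x.1.1ᵀ * G * x.1.1) * M₂ := by simp only [transpose_mul, Matrix.mul_assoc]
        _ = _ := by rw [mem_pres.1 x.2]
    have hz : M₁ᵀ * G * M₂ * (y.1 - 1) = 0 := by rw [Matrix.mul_sub, h0, Matrix.mul_one, sub_self]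
    have hu : IsUnit (y.1 - 1).det := isUnit_iff_ne_zero.2 fun h => by
      obtain ⟨v, hv0, hv⟩ := Matrix.exists_mulVec_eq_zero_iff.mpr h
      rw [Matrix.sub_mulVec, Matrix.one_mulVec, sub_eq_zero] at hv
      exact hv0 (hfix v hv)
    calc _ = M₁ᵀ * G * M₂ * ((y.1 - 1) * (y.1 - 1)⁻¹) := by rw [Matrix.mul_nonsing_inv _ hu, Matrix.mul_one]
      _ = 0 := by rw [← Matrix.mul_assoc, hz, Matrix.zero_mul]
  have hoff' : M₂ᵀ * G * M₁ = 0 := by
    have := congrArg Matrix.transpose hoff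
    rwa [transpose_mul, transpose_mul, transpose_transpose, hGs, transpose_zero, ← Matrix.mul_assoc] at this
  obtain ⟨e⟩ : Nonempty (ι ≃ Fin 1 ⊕ Fin b) := ⟨Fintype.equivOfCardEq (by simp [hab])⟩
  obtain ⟨δ, hδ⟩ : ∃ δ : Fin b → F, δ = Function.update (fun _ => 1) ⟨0, by omega⟩ (M₂ᵀ * G * M₂).det := ⟨_, rfl⟩
  have hδp : ∏ i, δ i = (M₂ᵀ * G * M₂).det := by
    rw [hδ, Finset.prod_update_of_mem (Finset.mem_univ _)]; simp
  have hG2s : (M₂ᵀ * G * M₂)ᵀ = M₂ᵀ * G * M₂ := by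
    rw [transpose_mul, transpose_mul, transpose_transpose, hGs, Matrix.mul_assoc]
  have hδu : IsUnit (Matrix.diagonal δ).det := by rw [Matrix.det_diagonal, hδp]; exact hu2
  obtain ⟨c, hcu, hcon⟩ := CfsgLib.SignedClasses.congr_symm h2 (B := M₂ᵀ * G * M₂) (B' := Matrix.diagonal δ)
    hG2s hu2 (Matrix.diagonal_transpose δ) hδu (by rw [Matrix.det_diagonal, hδp]; exact ⟨_, rfl⟩)
  obtain ⟨γ, hγ⟩ : ∃ γ : Fin 1 → F, γ = fun _ => (M₁ᵀ * G * M₁).det := ⟨_, rfl⟩
  obtain ⟨D, hD⟩ : ∃ D, D = Sum.elim γ δ := ⟨_, rfl⟩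
  have hB : Matrix.fromBlocks (M₁ᵀ * G * M₁) 0 0 (Matrix.diagonal δ) = Matrix.diagonal D := by
    rw [hD, ← Matrix.fromBlocks_diagonal, hγ]
    congr 1
    ext i j; fin_cases i; fin_cases j; simp [Matrix.det_fin_one]
  obtain ⟨T, hT⟩ : ∃ T, T = Matrix.fromCols M₁ (M₂ * c) := ⟨_, rfl⟩
  have hTG : Tᵀ * G * T = Matrix.diagonal D := by
    rw [← hB, hT, Matrix.transpose_fromCols, Matrix.fromRows_mul, Matrix.fromRows_mul_fromCols]
    have e1 : M₁ᵀ * G * (M₂ * c) = 0 := by rw [← Matrix.mul_assoc, hoff, Matrix.zero_mul]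
    have e2 : (M₂ * c)ᵀ * G * M₁ = 0 := by
      rw [transpose_mul, Matrix.mul_assoc cᵀ, Matrix.mul_assoc cᵀ, hoff', Matrix.mul_zero]
    have e3 : (M₂ * c)ᵀ * G * (M₂ * c) = Matrix.diagonal δ := by
      rw [← hcon]; simp only [transpose_mul, Matrix.mul_assoc]
    rw [e1, e2, e3]
  have hDne : ∀ i, D i ≠ 0 := by
    intro i h0
    have : (Matrix.diagonal D).det ≠ 0 := by
      rw [← hB, Matrix.det_fromBlocks_zero₁₂]; exact mul_ne_zero hu1.ne_zero hδu.ne_zero
    exact this (by rw [Matrix.det_diagonal]; exact Finset.prod_eq_zero (Finset.mem_univ i) h0)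
  obtain ⟨T1, hT1⟩ : ∃ T1, T1 = T.submatrix id e := ⟨_, rfl⟩
  have hT1u : IsUnit T1.det := by
    have h0 : T1ᵀ * G * T1 = (Matrix.diagonal D).submatrix e e := by
      rw [← hTG, hT1, Matrix.transpose_submatrix]
      ext i j
      simp [Matrix.mul_apply]
    rw [isUnit_iff_ne_zero]
    intro h
    have := congrArg Matrix.det h0
    rw [Matrix.det_mul, h, mul_zero, Matrix.det_submatrix_equiv_self, Matrix.det_diagonal] at this
    exact Finset.prod_ne_zero_iff.2 (fun i _ => hDne i) this.symm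
  obtain ⟨S', hS'⟩ : ∃ S', S' = T1⁻¹.submatrix e.symm id := ⟨_, rfl⟩
  have hST : S' * T = 1 := by
    have : T = T1.submatrix id e.symm := by rw [hT1, Matrix.submatrix_submatrix]; simp
    rw [this, hS', ← Matrix.submatrix_mul _ _ _ _ _ Function.bijective_id, Matrix.nonsing_inv_mul _ hT1u,
      Matrix.submatrix_one_equiv]
  have hTS : T * S' = 1 := by
    have : T = T1.submatrix id e.symm := by rw [hT1, Matrix.submatrix_submatrix]; simp
    rw [this, hS', Matrix.submatrix_mul_equiv, Matrix.submatrix_id_id, Matrix.mul_nonsing_inv _ hT1u]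
  have hGS : S'ᵀ * Matrix.diagonal D * S' = G := by
    rw [← hTG]
    calc _ = (T * S')ᵀ * G * (T * S') := by simp only [transpose_mul, Matrix.mul_assoc]
      _ = G := by rw [hTS, transpose_one, Matrix.one_mul, Matrix.mul_one]
  obtain ⟨φ, hφ⟩ := pres_equiv (G := G) (B := Matrix.diagonal D) S' T hST hTS one_ne_zero (by rw [one_smul, hGS])
  have hdet := det_eq_one_of_mem_commutator htC
  have htT : t.1.1 * T = T * Matrix.fromBlocks t₁.1 0 0 t₂.1 := by
    have e2 : t₂.1 * c = c * t₂.1 := by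
      rcases not_and_or.1 hp1 with h | h
      · rw [not_not.1 h, Matrix.one_mul, Matrix.mul_one]
      · rw [not_not.1 h, Matrix.neg_mul, Matrix.mul_neg, Matrix.one_mul, Matrix.mul_one]
    rw [hT, Matrix.mul_fromCols, Matrix.fromCols_mul_fromBlocks, ht₁, ← Matrix.mul_assoc, ht₂, Matrix.mul_assoc, e2,
      ← Matrix.mul_assoc]
    simp
  have hφt : (φ t).1.1 = Matrix.fromBlocks t₁.1 0 0 t₂.1 := by
    rw [hφ, Matrix.mul_assoc, htT, ← Matrix.mul_assoc, hST, Matrix.one_mul]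
  have hdet' := det_eq_one_of_mem_commutator (mem_commutator_map φ htC)
  rw [hφt, Matrix.det_fromBlocks_zero₁₂] at hdet'
  have htne : ¬ (t₁.1 = 1 ∧ t₂.1 = 1) := fun h => by
    have h' : t.1.1 = 1 := hext _ _ (by rw [ht₁, h.1, Matrix.mul_one, Matrix.one_mul])
      (by rw [ht₂, h.2, Matrix.mul_one, Matrix.one_mul])
    have : t = 1 := Subtype.ext (Units.ext h')
    rw [this, orderOf_one] at hto
    exact absurd hto (by norm_num)
  have hneg : (-1 : F) ≠ 1 := neg_one_ne_one h2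
  have hfin : t₁.1 = 1 ∧ t₂.1 = -1 := by
    rcases not_and_or.1 hp1 with h | h
    · rw [not_not] at h
      rcases ht1v with h1 | h1
      · exact absurd ⟨h1, h⟩ htne
      · rw [h1, h] at hdet'; simp at hdet'; exact absurd hdet' hneg
    · rw [not_not] at h
      refine ⟨?_, h⟩
      rcases ht1v with h1 | h1
      · exact h1
      · rw [h1, h, Matrix.det_neg, Matrix.det_neg, Fintype.card_fin, Fintype.card_fin, hk, ← two_mul, pow_mul] at hdet'
        simp at hdet'; exact absurd hdet' hneg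
  have hmem := isSquare_prod_of_diag_mem h2 hDne (by simp; omega) (Finset.univ.image Sum.inr) (φ t) (by
    rw [hφt, hfin.1, hfin.2, ← Matrix.diagonal_one, ← Matrix.diagonal_one, Matrix.diagonal_neg,
      Matrix.fromBlocks_diagonal]
    congr 1
    ext (i | i) <;> simp) (mem_commutator_map φ htC)
  rw [Finset.prod_image (by intro i _ j _ h; exact Sum.inr_injective h), hD] at hmem
  simp only [Sum.elim_inr] at hmem
  rw [hδp] at hmem
  obtain ⟨f⟩ : Nonempty (Fin n ⊕ Fin n ≃ Fin b) := ⟨Fintype.equivOfCardEq (by simp [hk])⟩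
  obtain ⟨ψ⟩ := pres_equiv_congr (G := (M₂ᵀ * G * M₂).submatrix f f) (B := M₂ᵀ * G * M₂) f 1 (by simp) one_ne_zero
    (by simp)
  exact do_imp h2 hn hs hso hsp ⟨_, by rw [Matrix.transpose_submatrix, hG2s],
    by rw [Matrix.det_submatrix_equiv_self]; exact hu2, by rw [Matrix.det_submatrix_equiv_self]; exact hmem,
    ψ.symm ⟨y, hy⟩, by rw [MulEquiv.orderOf_eq, ← orderOf_val, hyo]⟩

end CfsgLib.PrimeGraphBC
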