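import Cfsg.Agent.PrimeGraphBC.Pieces
import Cfsg.Agent.OrthOrder.Orders
import Cfsg.Agent.OrthOrder.Center
import Cfsg.Agent.Forms.SimilitudeStd

/-!
Reduction of an element of order `2s` or `ps` to a smaller symplectic group or to a numerical condition.
-/

set_option autoImplicit false
set_option linter.unusedSectionVars false

namespace CfsgLib.PrimeGraphBC

open Matrix QuadraticMap
open scoped Classical

variable {F : Type*} [Field F] [Fintype F]
variable {ι κ : Type*} [Fintype ι] [DecidableEq ι] [Fintype κ] [DecidableEq κ]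

theorem exists_factor {m k : Type*} [Fintype m] [DecidableEq m] [Fintype k] [DecidableEq k] (M : Matrix ι m F)
    (B : Matrix ι k F) (h : ∀ j, ∃ d, M *ᵥ d = B *ᵥ Pi.single j 1) : ∃ A : Matrix m k F, B = M * A := by
  choose d hd using h
  refine ⟨(Matrix.of fun j => d j)ᵀ, Matrix.ext_of_mulVec_single fun j => ?_⟩
  rw [← Matrix.mulVec_mulVec, ← hd]
  congr 1
  ext i
  simp

/-- An element of order `s` without fixed vectors commuting with a nontrivial unipotent element. -/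
theorem el_pred_of_unipotent (h2 : (2 : F) ≠ 0) {p : ℕ} [Fact p.Prime] [CharP F p] {K : Matrix ι ι F} (hK : Kᵀ = -K)
    (hKu : IsUnit K.det) {n : ℕ} (hn : 2 ≤ n) (hcard : Fintype.card ι = n + n) {x u : GL ι F} (hx : x ∈ pres K)
    (hu : u ∈ pres K) (hc : u * x = x * u) {s : ℕ} (hs : s.Prime) (hsodd : Odd s) (hsF : (s : F) ≠ 0)
    (hxs : orderOf x = s) (hfix : ∀ v, x.1 *ᵥ v = v → v = 0) (hup : u ^ p = 1) (hu1 : u ≠ 1) : El F (n - 1) s := by
  obtain ⟨d, hd⟩ : ∃ d, d = u.1 - 1 := ⟨_, rfl⟩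
  have hxd : x.1 * d = d * x.1 := by
    rw [hd, Matrix.mul_sub, Matrix.sub_mul, Matrix.one_mul, Matrix.mul_one,
      show x.1 * u.1 = u.1 * x.1 from (congrArg Units.val hc).symm]
  obtain ⟨T, hT⟩ : ∃ T, T = LinearMap.ker d.mulVecLin ⊓ LinearMap.range d.mulVecLin := ⟨_, rfl⟩
  have hd0 : d ≠ 0 := fun h => hu1 (Units.ext (by rw [hd, sub_eq_zero] at h; exact h))
  have hdp : d ^ p = 0 := by
    have : Nonempty ι := Fintype.card_pos_iff.mp (by omega)
    rw [hd, sub_pow_char_of_commute _ (Commute.one_right u.1), one_pow, ← Units.val_pow_eq_pow_val, hup, Units.val_one,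
      sub_self]
  have hT0 : T ≠ ⊥ := by
    have hex : ∃ i, d ^ (i + 1) = 0 := ⟨p - 1, by rw [Nat.sub_add_cancel (Fact.out : p.Prime).one_le, hdp]⟩
    have hi := Nat.find_spec hex
    obtain ⟨i, hi'⟩ : ∃ i, Nat.find hex = i + 1 := ⟨Nat.find hex - 1, by
      have : Nat.find hex ≠ 0 := fun h => hd0 (by rw [h, pow_one] at hi; exact hi)
      omega⟩
    have hne : d ^ (i + 1) ≠ 0 := Nat.find_min hex (by omega : i < Nat.find hex)
    obtain ⟨j, hj⟩ : ∃ j, d ^ (i + 1) *ᵥ Pi.single j 1 ≠ 0 := by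
      by_contra h
      push Not at h
      exact hne (Matrix.ext_of_mulVec_single fun j => by rw [h j, Matrix.zero_mulVec])
    refine fun hb => hj ((Submodule.mem_bot F).1 (hb ▸ ?_))
    rw [hT]
    refine ⟨?_, ⟨d ^ i *ᵥ Pi.single j 1, ?_⟩⟩
    · show d *ᵥ _ = 0
      rw [Matrix.mulVec_mulVec, ← pow_succ', show i + 1 + 1 = Nat.find hex + 1 by omega, hi, Matrix.zero_mulVec]
    · show d *ᵥ _ = _
      rw [Matrix.mulVec_mulVec, ← pow_succ']
  obtain ⟨t, ht⟩ : ∃ t, Module.finrank F T = t := ⟨_, rfl⟩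
  obtain ⟨M, hM, hMT⟩ := exists_basisMatrix T ht
  have hMd : ∀ c, d *ᵥ (M *ᵥ c) = 0 ∧ ∃ w, d *ᵥ w = M *ᵥ c := fun c => by
    have h := (hMT _).2 ⟨c, rfl⟩
    rw [hT] at h
    exact ⟨h.1, h.2⟩
  have hiso : Mᵀ * K * M = 0 := by
    refine Matrix.ext fun i j => ?_
    obtain ⟨w, hw⟩ := (hMd (Pi.single j 1)).2
    have hda := (hMd (Pi.single i 1)).1
    have hval : (Mᵀ * K * M) i j = (M *ᵥ Pi.single i 1) ⬝ᵥ (K *ᵥ (M *ᵥ Pi.single j 1)) := by
      rw [show (Mᵀ * K * M) i j = Pi.single i 1 ⬝ᵥ ((Mᵀ * K * M) *ᵥ Pi.single j 1) by simp,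
        ← Matrix.mulVec_mulVec, ← Matrix.mulVec_mulVec, Matrix.dotProduct_mulVec, Matrix.vecMul_transpose]
    have hua : u.1 *ᵥ (M *ᵥ Pi.single i 1) = M *ᵥ Pi.single i 1 := by
      rw [hd, Matrix.sub_mulVec, Matrix.one_mulVec, sub_eq_zero] at hda; exact hda
    have key : ∀ a b : ι → F, (u.1 *ᵥ a) ⬝ᵥ (K *ᵥ (u.1 *ᵥ b)) = a ⬝ᵥ (K *ᵥ b) := fun a b => by
      conv_rhs => rw [← mem_pres.1 hu]
      rw [← Matrix.mulVec_mulVec, ← Matrix.mulVec_mulVec, Matrix.dotProduct_mulVec a, Matrix.vecMul_transpose]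
    rw [hval, ← hw, hd, Matrix.sub_mulVec, Matrix.one_mulVec, Matrix.mulVec_sub, dotProduct_sub]
    conv_lhs => arg 1; rw [← hua, key]
    exact sub_self _
  have hMK : M.rank = t := by
    rw [Matrix.rank, LinearMap.finrank_range_of_inj hM, Module.finrank_fintype_fun_eq_card, Fintype.card_fin]
  obtain ⟨W, hW⟩ : ∃ W, W = LinearMap.ker (Mᵀ * K).mulVecLin := ⟨_, rfl⟩
  have hWd : Module.finrank F W + t = n + n := by
    have h := LinearMap.finrank_range_add_finrank_ker (Mᵀ * K).mulVecLin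
    rw [← hW, Module.finrank_fintype_fun_eq_card, hcard] at h
    have h' : (Mᵀ * K).rank = t := by
      rw [Matrix.rank_mul_eq_left_of_isUnit_det _ _ hKu, Matrix.rank_transpose, hMK]
    rw [Matrix.rank] at h'
    omega
  have hTW : T ≤ W := fun v hv => by
    obtain ⟨c, rfl⟩ := (hMT v).1 hv
    rw [hW, LinearMap.mem_ker, Matrix.mulVecLin_apply, Matrix.mulVec_mulVec, hiso, Matrix.zero_mulVec]
  have htn : t ≤ n := by have := Submodule.finrank_mono hTW; omega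
  have ht0 : t ≠ 0 := fun h => hT0 (Submodule.finrank_eq_zero.1 (ht.trans h))
  obtain ⟨A, hA⟩ := exists_restrict M x.1 fun c => (hMT _).1 (by
    rw [hT]
    obtain ⟨h1, w, hw⟩ := hMd c
    refine ⟨?_, ⟨x.1 *ᵥ w, ?_⟩⟩
    · show d *ᵥ _ = 0
      rw [Matrix.mulVec_mulVec, ← hxd, ← Matrix.mulVec_mulVec, h1, Matrix.mulVec_zero]
    · show d *ᵥ _ = _
      rw [Matrix.mulVec_mulVec, ← hxd, ← Matrix.mulVec_mulVec, hw])
  have hAs : A ^ s = 1 := mul_left_inj_of_injective hM (by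
    rw [← restrict_pow hA, ← Units.val_pow_eq_pow_val, ← hxs, pow_orderOf_eq_one, Units.val_one, Matrix.one_mul,
      Matrix.mul_one])
  have hA1 : A ≠ 1 := fun h => by
    have h1 : M *ᵥ Pi.single ⟨0, by omega⟩ 1 = 0 := hfix _ (by rw [Matrix.mulVec_mulVec, hA, h, Matrix.mul_one])
    have := congrFun (hM (h1.trans (Matrix.mulVec_zero _).symm)) ⟨0, by omega⟩
    simp at this
  let Au : GL (Fin t) F := Units.ofPowEqOne A s hAs hs.ne_zero
  have : Fact s.Prime := ⟨hs⟩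
  have hAu : orderOf Au = s := orderOf_eq_prime (Units.ext (by rw [Units.val_pow_eq_pow_val]; exact hAs))
    fun h => hA1 (congrArg Units.val h)
  rcases lt_or_eq_of_le htn with hlt | heq
  · exact El.mono ⟨CfsgLib.WordLaw.toSp F t Au, by
      rw [orderOf_injective _ (CfsgLib.WordLaw.toSp_injective F t), hAu]⟩ (by omega)
  have hkr := LinearMap.finrank_range_add_finrank_ker d.mulVecLin
  rw [Module.finrank_fintype_fun_eq_card, hcard] at hkr
  have hTker : T ≤ LinearMap.ker d.mulVecLin := hT ▸ inf_le_left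
  have hTran : T ≤ LinearMap.range d.mulVecLin := hT ▸ inf_le_right
  have h1' := Submodule.finrank_mono hTker
  have h2' := Submodule.finrank_mono hTran
  have hkerT : T = LinearMap.ker d.mulVecLin := Submodule.eq_of_le_of_finrank_le hTker (by omega)
  have hWT : T = W := Submodule.eq_of_le_of_finrank_le hTW (by omega)
  obtain ⟨M', hM'⟩ := exists_factor d M fun j => (hMd _).2
  obtain ⟨C, hC⟩ := exists_factor M (x.1 * M' - M' * A) fun j => (hMT _).1 (by
    rw [hkerT, LinearMap.mem_ker, Matrix.mulVecLin_apply, Matrix.mulVec_mulVec, Matrix.mul_sub, ← Matrix.mul_assoc,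
      ← hxd, Matrix.mul_assoc, ← hM', ← Matrix.mul_assoc, ← hM', hA, sub_self, Matrix.zero_mulVec])
  obtain ⟨Γ, hΓ⟩ : ∃ Γ, Γ = Mᵀ * K * M' := ⟨_, rfl⟩
  have hΓA : Aᵀ * Γ * A = Γ := by
    have hMA : M' * A = x.1 * M' - M * C := by rw [← hC]; abel
    calc Aᵀ * Γ * A = (M * A)ᵀ * K * (M' * A) := by rw [hΓ]; simp only [transpose_mul, Matrix.mul_assoc]
      _ = (x.1 * M)ᵀ * K * (x.1 * M') - (M * A)ᵀ * K * (M * C) := by rw [hMA, Matrix.mul_sub, hA]
      _ = Mᵀ * (x.1ᵀ * K * x.1) * M' - Aᵀ * (Mᵀ * K * M) * C := by simp only [transpose_mul, Matrix.mul_assoc]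
      _ = Γ := by rw [mem_pres.1 hx, hiso, Matrix.mul_zero, Matrix.zero_mul, sub_zero, hΓ]
  have hdK : dᵀ * K + K * d + dᵀ * K * d = 0 := by
    have e : u.1 = 1 + d := by rw [hd]; abel
    have h := mem_pres.1 hu
    rw [e, transpose_add, transpose_one] at h
    simp only [Matrix.add_mul, Matrix.mul_add, Matrix.one_mul, Matrix.mul_one] at h
    rw [← sub_eq_zero] at h
    rw [← h]
    abel
  have hΓs : Γᵀ = Γ := by
    have h := congrArg (fun Z => M'ᵀ * Z * M') hdK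
    simp only [Matrix.mul_add, Matrix.add_mul, Matrix.mul_zero, Matrix.zero_mul] at h
    have e1 : M'ᵀ * (dᵀ * K) * M' = Mᵀ * K * M' := by rw [hM', transpose_mul]; simp only [Matrix.mul_assoc]
    have e2 : M'ᵀ * (K * d) * M' = M'ᵀ * K * M := by rw [hM']; simp only [Matrix.mul_assoc]
    have e3 : M'ᵀ * (dᵀ * K * d) * M' = Mᵀ * K * M := by rw [hM', transpose_mul]; simp only [Matrix.mul_assoc]
    rw [e1, e2, e3, hiso, add_zero] at h
    rw [hΓ, transpose_mul, transpose_mul, transpose_transpose, hK, Matrix.neg_mul, Matrix.mul_neg, ← Matrix.mul_assoc]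
    exact (eq_neg_of_add_eq_zero_left h).symm
  have hΓu : IsUnit Γ.det := by
    refine isUnit_iff_ne_zero.2 fun h0 => ?_
    obtain ⟨v, hv0, hv⟩ := Matrix.exists_mulVec_eq_zero_iff.mpr h0
    have hvW : M' *ᵥ v ∈ LinearMap.ker d.mulVecLin := by
      rw [← hkerT, hWT, hW, LinearMap.mem_ker, Matrix.mulVecLin_apply, Matrix.mulVec_mulVec, ← hΓ, hv]
    refine hv0 (hM ?_)
    rw [hM', ← Matrix.mulVec_mulVec, Matrix.mulVec_zero]
    exact hvW
  obtain ⟨k, a, hka, hel, -⟩ := el_of_pres h2 hΓu (Or.inl hΓs) (⟨Au, hΓA⟩ : ↥(pres Γ))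
    (by rw [← orderOf_val, hAu]; exact hsodd) (by rw [← orderOf_val, hAu]; exact hsF)
  rw [← orderOf_val, hAu] at hel
  rw [Fintype.card_fin] at hka
  exact hel.mono (by omega)

theorem unit_fin_one {u : GL (Fin 1) F} {p : ℕ} [Fact p.Prime] [CharP F p] (h : u ^ p = 1) : u = 1 := by
  refine Units.ext (Matrix.ext fun i j => ?_)
  fin_cases i; fin_cases j
  have h1 : (u.1 0 0) ^ p = 1 := by
    have e : ∀ k : ℕ, (u.1 ^ k) 0 0 = (u.1 0 0) ^ k := fun k => by
      induction k with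
      | zero => simp
      | succ k ih => rw [pow_succ, Matrix.mul_apply, Fin.sum_univ_one, ih, pow_succ]
    rw [← e, ← Units.val_pow_eq_pow_val, h]; rfl
  have h3 : (u.1 0 0 - 1) ^ p = 0 := by rw [sub_pow_char, one_pow, h1, sub_self]
  simpa [sub_eq_zero] using eq_zero_of_pow_eq_zero h3

/-- An element of order `ps` gives an element of order `s` in a smaller symplectic group. -/
theorem el_pred_of_order_ps (h2 : (2 : F) ≠ 0) {p : ℕ} [Fact p.Prime] [CharP F p] {G : Matrix ι ι F}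
    (hGu : IsUnit G.det) (hGs : Gᵀ = G ∨ Gᵀ = -G) {n : ℕ} (hn : 2 ≤ n) (hcard : Fintype.card ι ≤ n + n + 1)
    (g : ↥(pres G)) {s : ℕ} (hs : s.Prime) (hsodd : Odd s) (hsp : s ≠ p) (hg : orderOf g = p * s) :
    El F (n - 1) s := by
  have hpp : p.Prime := Fact.out
  have hsF : (s : F) ≠ 0 := natCast_ne_zero_of_coprime (p := p) fun h => hsp ((Nat.prime_dvd_prime_iff_eq hpp hs).1 h).symm
  have hgv : orderOf g.1 = p * s := by rw [orderOf_val, hg]
  obtain ⟨x, hx⟩ : ∃ x, x = g.1 ^ p := ⟨_, rfl⟩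
  obtain ⟨u, hu⟩ : ∃ u, u = g.1 ^ s := ⟨_, rfl⟩
  have hxs : orderOf x = s := by
    rw [hx, orderOf_pow' _ hpp.ne_zero, hgv, Nat.gcd_mul_right_left, Nat.mul_div_cancel_left _ hpp.pos]
  have hup : orderOf u = p := by
    rw [hu, orderOf_pow' _ hs.ne_zero, hgv, Nat.gcd_mul_left_left, Nat.mul_div_cancel _ hs.pos]
  obtain ⟨a, b, M₁, M₂, y, hab, hM₁, hM₂, -, hu2, -, -, hy, hfix, hyo, hext, hcen⟩ :=
    exists_fix_split hGu (hx ▸ pow_mem g.2 p : x ∈ pres G) hsF (by rw [← hxs, pow_orderOf_eq_one])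
  obtain ⟨K, hK, hKu, hpres⟩ := exists_alt hu2 (restricted_transpose hGs M₂) hy hsodd
    (by rw [← hxs, ← hyo, pow_orderOf_eq_one]) hfix
  obtain ⟨k, hk, hel⟩ := el_of_alt h2 hK hKu ⟨y, hpres y hy rfl⟩
  rw [← orderOf_val, hyo, hxs] at hel
  rw [Fintype.card_fin] at hk
  by_cases hkn : k ≤ n - 1
  · exact hel.mono hkn
  obtain ⟨u₁, u₂, hu₁, hu₂, -, hu₂m, hc⟩ := hcen u (hu ▸ pow_mem g.2 s)
    (by rw [hu, hx, ← pow_add, ← pow_add, Nat.add_comm])
  have hpow : ∀ {m : ℕ} (M : Matrix ι (Fin m) F) (v : GL (Fin m) F), Function.Injective M.mulVec →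
      u.1 * M = M * v.1 → v ^ p = 1 := fun M v hM h => Units.ext (mul_left_inj_of_injective hM (by
    rw [Units.val_pow_eq_pow_val, ← restrict_pow h, ← Units.val_pow_eq_pow_val, ← hup, pow_orderOf_eq_one,
      Units.val_one, Matrix.one_mul, Units.val_one, Matrix.mul_one]))
  have hu₁1 : u₁ = 1 := by
    rcases (show a = 0 ∨ a = 1 by omega) with rfl | rfl
    · exact Units.ext (Matrix.ext fun i => i.elim0)
    · exact unit_fin_one (hpow M₁ u₁ hM₁ hu₁)
  have hu₂1 : u₂ ≠ 1 := fun h => by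
    have : u = 1 := Units.ext (hext _ 1 (by rw [hu₁, hu₁1, Units.val_one, Matrix.mul_one, Matrix.one_mul])
      (by rw [hu₂, h, Units.val_one, Matrix.mul_one, Matrix.one_mul]))
    rw [this, orderOf_one] at hup
    exact hpp.one_lt.ne hup
  exact el_pred_of_unipotent h2 hK hKu hn (by rw [Fintype.card_fin]; omega) (hpres y hy rfl) (hpres u₂ hu₂m hc) hc hs
    hsodd hsF (by rw [hyo, hxs]) hfix (hpow M₂ u₂ hM₂ hu₂) hu₂1

/-- An element of order `s` in a symplectic group commuting with an involution other than `-1` is in a smaller one. -/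
theorem el_pred_of_invol (h2 : (2 : F) ≠ 0) {K : Matrix ι ι F} (hK : Kᵀ = -K) (hKu : IsUnit K.det) {n : ℕ}
    (hcard : Fintype.card ι = n + n) {x t : GL ι F} (hx : x ∈ pres K) (ht : t ∈ pres K) (hc : t * x = x * t)
    {s : ℕ} (hs : s.Prime) (hxs : orderOf x = s) (htt : t.1 * t.1 = 1)
    (ht1 : t.1 ≠ 1) (ht2 : t.1 ≠ -1) : El F (n - 1) s := by
  obtain ⟨P, hP⟩ : ∃ P, P = (2 : F)⁻¹ • (1 + t.1) := ⟨_, rfl⟩
  have hPP : P * P = P := by
    have e : (1 + t.1) * (1 + t.1) = (2 : F) • (1 + t.1) := by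
      rw [Matrix.mul_add, Matrix.mul_one, Matrix.add_mul, Matrix.one_mul, htt, two_smul]; abel
    rw [hP, Matrix.smul_mul, Matrix.mul_smul, e, smul_smul (2 : F)⁻¹ (2 : F), inv_mul_cancel₀ h2, one_smul]
  have hPK : Pᵀ * K = K * P := by
    have e : t.1ᵀ * K = K * t.1 := by
      conv_rhs => rw [← mem_pres.1 ht]
      rw [Matrix.mul_assoc _ t.1, htt, Matrix.mul_one]
    rw [hP, transpose_smul, transpose_add, transpose_one, Matrix.smul_mul, Matrix.mul_smul, Matrix.add_mul,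
      Matrix.mul_add, e, Matrix.one_mul, Matrix.mul_one]
  obtain ⟨a, b, M₁, M₂, hab, hM₁, hM₂, e1, e2, hu1, hu2, hres, hext, -⟩ := exists_split hKu hPP hPK
  have hPx : x.1 * P = P * x.1 := by
    rw [hP, Matrix.mul_smul, Matrix.smul_mul, Matrix.mul_add, Matrix.add_mul, Matrix.mul_one, Matrix.one_mul,
      show x.1 * t.1 = t.1 * x.1 from (congrArg Units.val hc).symm]
  have ha : a ≠ 0 := fun h => by
    subst h
    refine ht2 ?_
    have hP0 : P = 0 := hext P 0 (Matrix.ext fun i j => j.elim0) (by rw [e2, Matrix.zero_mul])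
    rw [hP, smul_eq_zero_iff_right (inv_ne_zero h2)] at hP0
    exact eq_neg_of_add_eq_zero_right hP0
  have hb : b ≠ 0 := fun h => by
    subst h
    refine ht1 ?_
    have hP1 : P = 1 := hext P 1 (by rw [e1, Matrix.one_mul]) (Matrix.ext fun i j => j.elim0)
    have e : (1 : Matrix ι ι F) + t.1 = 1 + 1 := by
      rw [hP] at hP1
      calc (1 : Matrix ι ι F) + t.1 = (2 : F) • ((2 : F)⁻¹ • (1 + t.1)) := by
            rw [smul_smul, mul_inv_cancel₀ h2, one_smul]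
        _ = _ := by rw [hP1, two_smul]
    exact add_left_cancel e
  obtain ⟨⟨A₁, hA₁⟩, A₂, hA₂⟩ := hres _ hPx
  have key : ∀ {m : ℕ} (M : Matrix ι (Fin m) F), Function.Injective M.mulVec → IsUnit (Mᵀ * K * M).det → m < n + n →
      ∀ A : Matrix (Fin m) (Fin m) F, x.1 * M = M * A → A ≠ 1 → El F (n - 1) s := by
    intro m M hM hMu hm A hA hA1
    obtain ⟨v, rfl, hv⟩ := pres_restrict hx hMu hA
    have : Fact s.Prime := ⟨hs⟩
    have hvs : orderOf v = s := orderOf_eq_prime (Units.ext (mul_left_inj_of_injective hM (by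
      rw [Units.val_pow_eq_pow_val, ← restrict_pow hA, ← Units.val_pow_eq_pow_val, ← hxs, pow_orderOf_eq_one,
        Units.val_one, Matrix.one_mul, Units.val_one, Matrix.mul_one]))) fun h => hA1 (congrArg Units.val h)
    have hMt : (Mᵀ * K * M)ᵀ = -(Mᵀ * K * M) := by
      rw [transpose_mul, transpose_mul, transpose_transpose, hK, Matrix.mul_assoc, Matrix.neg_mul, Matrix.mul_neg]
    obtain ⟨k, hk, hel⟩ := el_of_alt h2 hMt hMu ⟨v, hv⟩
    rw [← orderOf_val, hvs] at hel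
    rw [Fintype.card_fin] at hk
    exact hel.mono (by omega)
  by_cases h1 : A₁ = 1
  · refine key M₂ hM₂ hu2 (by omega) A₂ hA₂ fun h2' => ?_
    have : x = 1 := Units.ext (hext _ 1 (by rw [hA₁, h1, Matrix.mul_one, Matrix.one_mul])
      (by rw [hA₂, h2', Matrix.mul_one, Matrix.one_mul]))
    rw [this, orderOf_one] at hxs
    exact hs.one_lt.ne hxs
  · exact key M₁ hM₁ hu1 (by omega) A₁ hA₁ h1

/-- An element of order `s` in an orthogonal group of dimension `2n` and square discriminant. -/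
def DO (F : Type*) [Field F] (n s : ℕ) : Prop :=
  ∃ H : Matrix (Fin n ⊕ Fin n) (Fin n ⊕ Fin n) F, Hᵀ = H ∧ IsUnit H.det ∧ IsSquare H.det ∧
    ∃ g : ↥(pres H), orderOf g = s

/-- Commuting elements `x` of order `s` and `w`, `w² = -1`, in `Sp_{2n}`. -/
def WS (F : Type*) [Field F] (n s : ℕ) : Prop :=
  ∃ x w : Matrix.symplecticGroup (Fin n) F, orderOf x = s ∧ x * w = w * x ∧ w.1 * w.1 = -1

theorem det_J (n : ℕ) : (Matrix.J (Fin n) F).det = 1 := SymplecticGroup.det_eq_one (SymplecticGroup.J_mem _ _)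

theorem isSquare_det_alt (h2 : (2 : F) ≠ 0) {n : ℕ} {K : Matrix (Fin n ⊕ Fin n) (Fin n ⊕ Fin n) F} (hK : Kᵀ = -K)
    (hKu : IsUnit K.det) : IsSquare K.det := by
  obtain ⟨a, -, h⟩ := CfsgLib.SignedClasses.congr_alt h2 (B := Matrix.J (Fin n) F) (B' := K) (Matrix.J_transpose _ _)
    (by rw [det_J]; exact isUnit_one) hK hKu
  rw [← h, Matrix.det_mul, Matrix.det_mul, Matrix.det_transpose, det_J, mul_one]
  exact ⟨_, rfl⟩

theorem ws_imp (h2 : (2 : F) ≠ 0) {n s : ℕ} (hsodd : Odd s) (hsF : (s : F) ≠ 0) (h : WS F n s) :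
    El F (n - 1) s ∨ DO F n s := by
  obtain ⟨x, w, hxs, hc, hw⟩ := h
  obtain ⟨W, hW⟩ : ∃ W : GL (Fin n ⊕ Fin n) F, W = MonoidHom.toHomUnits (Submonoid.subtype (Matrix.symplecticGroup (Fin n) F)) w := ⟨_, rfl⟩
  obtain ⟨X', hX'⟩ : ∃ X' : GL (Fin n ⊕ Fin n) F, X' = MonoidHom.toHomUnits (Submonoid.subtype (Matrix.symplecticGroup (Fin n) F)) x := ⟨_, rfl⟩
  have hX'm : X' ∈ pres (Matrix.J (Fin n) F) := by rw [hX']; exact mem_pres.2 (SymplecticGroup.mem_iff'.1 x.2)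
  have hWm : W ∈ pres (Matrix.J (Fin n) F) := by rw [hW]; exact mem_pres.2 (SymplecticGroup.mem_iff'.1 w.2)
  have hX's : orderOf X' = s := by
    rw [hX', orderOf_injective (MonoidHom.toHomUnits (Submonoid.subtype (Matrix.symplecticGroup (Fin n) F)))
      (fun a b h => Subtype.ext (congrArg Units.val h :)), hxs]
  have hWX : X' * W = W * X' := by rw [hX', hW, ← map_mul, hc, map_mul]
  obtain ⟨k', a', hka', hel', hfix'⟩ := el_of_pres h2 (by rw [det_J]; exact isUnit_one)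
    (Or.inr (Matrix.J_transpose _ _)) (⟨X', hX'm⟩ : ↥(pres (Matrix.J (Fin n) F)))
    (by rw [← orderOf_val, hX's]; exact hsodd) (by rw [← orderOf_val, hX's]; exact hsF)
  rw [← orderOf_val, hX's] at hel'
  simp only [Fintype.card_sum, Fintype.card_fin] at hka'
  by_cases ha' : a' = 0
  swap; · exact Or.inl (hel'.mono (by omega))
  have hdet := isUnit_det_sub_inv hsodd (by rw [← hX's, pow_orderOf_eq_one] : X' ^ s = 1) (hfix' ha')
  obtain ⟨D, hD⟩ : ∃ D, D = X'.1 - X'⁻¹.1 := ⟨_, rfl⟩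
  rw [← hD] at hdet
  have h1 : X'.1 * X'⁻¹.1 = 1 := by rw [← Units.val_mul, mul_inv_cancel, Units.val_one]
  have hmove : X'.1ᵀ * Matrix.J (Fin n) F = Matrix.J (Fin n) F * X'⁻¹.1 := by
    conv_rhs => rw [← mem_pres.1 hX'm]
    rw [Matrix.mul_assoc _ X'.1, h1, Matrix.mul_one]
  have hmove' : X'⁻¹.1ᵀ * Matrix.J (Fin n) F = Matrix.J (Fin n) F * X'.1 := by
    conv_lhs => rw [← mem_pres.1 hX'm]
    rw [← Matrix.mul_assoc, ← Matrix.mul_assoc, ← transpose_mul, h1, transpose_one, Matrix.one_mul]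
  have hDJ : Dᵀ * Matrix.J (Fin n) F = -(Matrix.J (Fin n) F * D) := by
    rw [hD, transpose_sub, Matrix.sub_mul, hmove, hmove', Matrix.mul_sub, neg_sub]
  have hHs : (Matrix.J (Fin n) F * D)ᵀ = Matrix.J (Fin n) F * D := by
    rw [transpose_mul, Matrix.J_transpose, Matrix.mul_neg, hDJ, neg_neg]
  have hWW : W.1 * W.1 = -1 := by rw [hW]; exact hw
  have hWJ : W.1ᵀ * Matrix.J (Fin n) F = -(Matrix.J (Fin n) F * W.1) := by
    have h := mem_pres.1 hWm
    calc W.1ᵀ * Matrix.J (Fin n) F = -((W.1ᵀ * Matrix.J (Fin n) F) * (W.1 * W.1)) := by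
          rw [hWW, Matrix.mul_neg, Matrix.mul_one, neg_neg]
      _ = _ := by rw [← Matrix.mul_assoc, h]
  have hDW : D * W.1 = W.1 * D := by
    have e1 : X'.1 * W.1 = W.1 * X'.1 := congrArg Units.val hWX
    have e2 : X'⁻¹.1 * W.1 = W.1 * X'⁻¹.1 := congrArg Units.val ((Commute.inv_left hWX).eq)
    rw [hD, Matrix.sub_mul, Matrix.mul_sub, e1, e2]
  have hK : (Matrix.J (Fin n) F * D * W.1)ᵀ = -(Matrix.J (Fin n) F * D * W.1) := by
    rw [transpose_mul, hHs, ← Matrix.mul_assoc, hWJ, Matrix.neg_mul, Matrix.mul_assoc, ← hDW, ← Matrix.mul_assoc]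
  have hWd : W.1.det = 1 := by rw [hW]; exact SymplecticGroup.det_eq_one w.2
  have hHu : IsUnit (Matrix.J (Fin n) F * D).det := by rw [Matrix.det_mul, det_J, one_mul]; exact hdet
  have hsq := isSquare_det_alt h2 hK (by rw [Matrix.det_mul, hWd, mul_one]; exact hHu)
  rw [Matrix.det_mul, hWd, mul_one] at hsq
  have hXH : X' ∈ pres (Matrix.J (Fin n) F * D) := mem_pres.2 (by
    have hc1 : D * X'.1 = X'.1 * D := by
      rw [hD, Matrix.sub_mul, Matrix.mul_sub, ← Units.val_mul X'⁻¹ X', inv_mul_cancel, Units.val_one, h1]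
    calc _ = X'.1ᵀ * Matrix.J (Fin n) F * (D * X'.1) := by simp only [Matrix.mul_assoc]
      _ = (X'.1ᵀ * Matrix.J (Fin n) F * X'.1) * D := by rw [hc1]; simp only [Matrix.mul_assoc]
      _ = _ := by rw [mem_pres.1 hX'm])
  exact Or.inr ⟨_, hHs, hHu, hsq, ⟨X', hXH⟩, by rw [← orderOf_val, hX's]⟩

/-- The numerical condition. -/
def Num (F : Type*) [Field F] (n s : ℕ) : Prop :=
  ∃ M : ℕ, 4 ∣ M ∧ s ∣ M ∧ (M = Nat.card F ^ n - 1 ∨ M = Nat.card F ^ n + 1)

theorem el_of_dvd_factor {n s i : ℕ} (hs : s.Prime) (hi : i + 1 ≤ n - 1)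
    (h : s ∣ Fintype.card F ^ (2 * (i + 1)) - 1) : El F (n - 1) s := by
  rw [← Nat.card_eq_fintype_card] at h
  have hq : 2 ≤ Nat.card F := Finite.one_lt_card
  have e : Nat.card F ^ (2 * (i + 1)) - 1 = (Nat.card F ^ (i + 1) + 1) * (Nat.card F ^ (i + 1) - 1) := by
    rw [← Nat.sq_sub_sq, one_pow, ← pow_mul, Nat.mul_comm]
  rw [e] at h
  rcases hs.dvd_mul.1 h with h | h
  · obtain ⟨x, hx⟩ := CfsgLib.Symp.exists_torus_plus (F := F) (i + 1) (by omega)
    exact (El.of_dvd (k := i + 1) ⟨x, hx⟩ h (by omega)).mono hi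
  · obtain ⟨x, hx⟩ := CfsgLib.Symp.exists_torus_minus (F := F) (i + 1) (by omega)
    have : 1 < Nat.card F ^ (i + 1) := Nat.one_lt_pow (by omega) (by omega)
    exact (El.of_dvd (k := i + 1) ⟨x, hx⟩ h (by omega)).mono hi

theorem do_imp (h2 : (2 : F) ≠ 0) {p : ℕ} [Fact p.Prime] [CharP F p] {n s : ℕ} (hn : 1 ≤ n) (hs : s.Prime)
    (hsodd : Odd s) (hsp : s ≠ p) (h : DO F n s) : El F (n - 1) s ∨ Num F n s := by
  obtain ⟨H, hHs, hHu, hsq, g, hg⟩ := h
  have hodd : Odd (Fintype.card F) := CfsgLib.OrthOrder.odd_of_two_ne_zero h2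
  obtain ⟨m, rfl⟩ : ∃ m, n = m + 1 := ⟨n - 1, by omega⟩
  have hsq' : ∀ N : ℕ, s ∣ Fintype.card F ^ N → False := fun N hN => by
    obtain ⟨e, -, he⟩ := FiniteField.card F p
    exact hsp ((Nat.prime_dvd_prime_iff_eq hs (Fact.out : p.Prime)).1 (hs.dvd_of_dvd_pow (he ▸ hs.dvd_of_dvd_pow hN)))
  have fin : ∀ {Z : ℕ}, (Z = Fintype.card F ^ (m + 1) - 1 ∨ Z = Fintype.card F ^ (m + 1) + 1) → 4 ∣ Z →
      s ∣ 2 * Fintype.card F ^ ((m + 1) * m) * Z * ∏ i ∈ Finset.range m, (Fintype.card F ^ (2 * (i + 1)) - 1) →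
      El F (m + 1 - 1) s ∨ Num F (m + 1) s := by
    intro Z hZ h4 hd
    rcases hs.dvd_mul.1 hd with h | h
    · rcases hs.dvd_mul.1 h with h | h
      · rcases hs.dvd_mul.1 h with h | h
        · exact absurd ((Nat.prime_dvd_prime_iff_eq hs Nat.prime_two).1 h) (fun e => by rw [e] at hsodd; exact absurd hsodd (by decide))
        · exact (hsq' _ h).elim
      · exact Or.inr ⟨Z, h4, h, by rwa [Nat.card_eq_fintype_card]⟩
    · obtain ⟨i, hi, hdi⟩ := (Prime.dvd_finsetProd_iff hs.prime _).1 h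
      exact Or.inl (el_of_dvd_factor hs (by rw [Finset.mem_range] at hi; omega) hdi)
  have hq4 : Fintype.card F % 4 = 1 ∨ Fintype.card F % 4 = 3 := by have := Nat.odd_iff.1 hodd; omega
  by_cases hpl : IsSquare ((-1 : F) ^ (m + 1))
  · let B : Matrix (Fin (m + 1) ⊕ Fin (m + 1)) (Fin (m + 1) ⊕ Fin (m + 1)) F := Matrix.fromBlocks 0 1 1 0
    have hB : ∀ u v, u ⬝ᵥ (B *ᵥ v) = polar (CfsgLib.Forms.quadPlus F (m + 1)) u v := fun u v => by
      rw [CfsgLib.Forms.coe_quadPlus, CfsgLib.Forms.polar_plus]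
      simp [B, Matrix.fromBlocks_mulVec, dotProduct, Fintype.sum_sum_type, Finset.sum_add_distrib, mul_comm, add_comm]
    have hBd : B.det = (-1) ^ (m + 1) := by
      have e : B = Matrix.J (Fin (m + 1)) F * Matrix.fromBlocks (1 : Matrix (Fin (m + 1)) (Fin (m + 1)) F) 0 0 (-1) := by
        simp [B, Matrix.J, Matrix.fromBlocks_multiply]
      rw [e, Matrix.det_mul, det_J, one_mul, Matrix.det_fromBlocks_zero₁₂, Matrix.det_one, one_mul, Matrix.det_neg,
        Matrix.det_one, mul_one, Fintype.card_fin]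
    have hBu : IsUnit B.det := by rw [hBd]; exact (isUnit_one.neg).pow _
    obtain ⟨a, ha, hcon⟩ := CfsgLib.SignedClasses.congr_symm h2 (B := B) (B' := H)
      (by simp [B, Matrix.fromBlocks_transpose]) hBu hHs hHu (by rw [hBd]; exact hpl.mul hsq)
    obtain ⟨φ⟩ := pres_equiv_congr (G := H) (B := B) (Equiv.refl _) a ha one_ne_zero (by rw [one_smul]; simpa using hcon)
    have hd : s ∣ Nat.card (CfsgLib.Forms.isom (CfsgLib.Forms.quadPlus F (m + 1))) := by
      rw [← Nat.card_congr (CfsgLib.Forms.isoEquiv _).toEquiv, isometryGroup_eq h2 _ B hB, ← hg,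
        ← MulEquiv.orderOf_eq φ]
      exact orderOf_dvd_natCard _
    rw [CfsgLib.OrthOrder.card_isom_plus] at hd
    refine fin (Or.inl rfl) ?_ hd
    have h1 : Fintype.card F ^ (m + 1) % 4 = 1 := by
      rw [CfsgLib.Forms.Simil.isSquare_neg_one_pow_iff hodd] at hpl
      rcases hq4 with h | h
      · simp [Nat.pow_mod, h]
      · obtain ⟨j, hj⟩ := Nat.not_odd_iff_even.1 fun ho => hpl ⟨ho, h⟩
        rw [hj, ← two_mul, pow_mul, Nat.pow_mod, Nat.pow_mod _ 2, h]; norm_num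
    omega
  · obtain ⟨ν, hν⟩ := FiniteField.exists_nonsquare (CfsgLib.Forms.Simil.two_ne_of_odd hodd).1
    have hab : ∀ z₁ z₂ : F, z₁ ^ 2 + 0 * z₁ * z₂ + (-ν) * z₂ ^ 2 = 0 → z₁ = 0 ∧ z₂ = 0 := by
      intro z₁ z₂ h
      by_cases hz : z₂ = 0
      · subst hz; simpa using h
      · exact absurd ⟨z₁ / z₂, by field_simp; linear_combination -h⟩ hν
    let B : Matrix ((Fin m ⊕ Fin m) ⊕ Fin 2) ((Fin m ⊕ Fin m) ⊕ Fin 2) F :=
      Matrix.fromBlocks (Matrix.fromBlocks 0 1 1 0) 0 0 (Matrix.diagonal ![2, -(2 * ν)])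
    have hB : ∀ u v, u ⬝ᵥ (B *ᵥ v) = polar (CfsgLib.Forms.quadMinus F m 0 (-ν)) u v := fun u v => by
      rw [CfsgLib.Forms.coe_quadMinus, CfsgLib.Forms.polar_minus]
      simp [B, Matrix.fromBlocks_mulVec, dotProduct, Fintype.sum_sum_type, Finset.sum_add_distrib, Fin.sum_univ_two,
        Matrix.mulVec_diagonal, Function.comp_def, mul_comm, add_comm]
      ring
    have hBd : B.det = (-1) ^ (m + 1) * ((2 * 2) * ν) := by
      have e : (Matrix.fromBlocks (0 : Matrix (Fin m) (Fin m) F) 1 1 0) =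
          Matrix.J (Fin m) F * Matrix.fromBlocks (1 : Matrix (Fin m) (Fin m) F) 0 0 (-1) := by
        simp [Matrix.J, Matrix.fromBlocks_multiply]
      show (Matrix.fromBlocks _ 0 0 _).det = _
      rw [Matrix.det_fromBlocks_zero₁₂, e, Matrix.det_mul, det_J, one_mul, Matrix.det_fromBlocks_zero₁₂,
        Matrix.det_one, one_mul, Matrix.det_neg, Matrix.det_one, Fintype.card_fin, Matrix.det_diagonal, Fin.prod_univ_two]
      simp [pow_succ]; ring
    have hν0 : ν ≠ 0 := fun h => hν (h ▸ IsSquare.zero)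
    have hBu : IsUnit B.det := by
      rw [hBd]; exact isUnit_iff_ne_zero.2 (mul_ne_zero (pow_ne_zero _ (neg_ne_zero.2 one_ne_zero)) (by simp [h2, hν0]))
    obtain ⟨e⟩ : Nonempty (Fin (m + 1) ⊕ Fin (m + 1) ≃ (Fin m ⊕ Fin m) ⊕ Fin 2) :=
      ⟨Fintype.equivOfCardEq (by simp; omega)⟩
    have hB4 : IsSquare (B.det * H.det) := by
      refine IsSquare.mul ?_ hsq
      rw [hBd]
      have h1 : ¬ IsSquare ((-1 : F) ^ (m + 1)) := hpl
      have hn0 : (-1 : F) ^ (m + 1) ≠ 0 := pow_ne_zero _ (neg_ne_zero.2 one_ne_zero)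
      have h3 := (CfsgLib.Forms.isSquare_mul_iff' hn0 hν0).2 ⟨fun h => absurd h h1, fun h => absurd h hν⟩
      rw [show (-1 : F) ^ (m + 1) * (2 * 2 * ν) = (2 * 2) * ((-1) ^ (m + 1) * ν) by ring]
      exact IsSquare.mul ⟨2, rfl⟩ h3
    obtain ⟨a, ha, hcon⟩ := CfsgLib.SignedClasses.congr_symm h2 (B := B.submatrix e e) (B' := H)
      (by rw [Matrix.transpose_submatrix]; simp [B, Matrix.fromBlocks_transpose])
      (by rw [Matrix.det_submatrix_equiv_self]; exact hBu) hHs hHu (by rw [Matrix.det_submatrix_equiv_self]; exact hB4)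
    obtain ⟨φ⟩ := pres_equiv_congr (G := H) (B := B) e a ha one_ne_zero (by rw [one_smul]; exact hcon)
    have hd : s ∣ Nat.card (CfsgLib.Forms.isom (CfsgLib.Forms.quadMinus F m 0 (-ν))) := by
      rw [← Nat.card_congr (CfsgLib.Forms.isoEquiv _).toEquiv, isometryGroup_eq h2 _ B hB, ← hg,
        ← MulEquiv.orderOf_eq φ]
      exact orderOf_dvd_natCard _
    rw [CfsgLib.OrthOrder.card_isom_minus hab] at hd
    refine fin (Or.inr rfl) ?_ hd
    have h1 : Fintype.card F ^ (m + 1) % 4 = 3 := by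
      rw [CfsgLib.Forms.Simil.isSquare_neg_one_pow_iff hodd, not_not] at hpl
      obtain ⟨⟨j, hj⟩, h⟩ := hpl
      rw [hj, pow_add, pow_mul, pow_one, Nat.mul_mod, Nat.pow_mod, Nat.pow_mod _ 2, h]; norm_num
    omega

end CfsgLib.PrimeGraphBC
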