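import Cfsg.Agent.PrimeGraphBC.Pres
import Cfsg.Agent.Symp.Elements
import Mathlib.GroupTheory.OrderOfElement

/-!
The fixed space of an element of odd order prime to the characteristic, and the exchange of symmetric and alternating
forms on its complement.
-/

set_option autoImplicit false
set_option linter.unusedSectionVars false

namespace CfsgLib.PrimeGraphBC

open Matrix
open scoped Classical

variable {F : Type*} [Field F] [Fintype F]
variable {ι κ : Type*} [Fintype ι] [DecidableEq ι] [Fintype κ] [DecidableEq κ]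

/-- There is an element of order `N` in `Sp_{2k}`. -/
def El (F : Type*) [Field F] (k N : ℕ) : Prop := ∃ x : Matrix.symplecticGroup (Fin k) F, orderOf x = N

theorem El.mono {k l N : ℕ} (h : El F k N) (hkl : k ≤ l) : El F l N := by
  obtain ⟨x, hx⟩ := h
  refine ⟨CfsgLib.Symp.spBlock F (show k + (l - k) = l by omega) (x, 1), ?_⟩
  rw [orderOf_injective _ (CfsgLib.Symp.spBlock_injective _), Prod.orderOf_mk, orderOf_one, Nat.lcm_one_right, hx]

theorem El.of_dvd {k N M : ℕ} (h : El F k N) (hM : M ∣ N) (hN : N ≠ 0) : El F k M := by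
  obtain ⟨x, hx⟩ := h
  obtain ⟨c, rfl⟩ := hM
  refine ⟨x ^ c, ?_⟩
  rw [orderOf_pow' _ (right_ne_zero_of_mul hN), hx, Nat.gcd_mul_left_left, Nat.mul_div_cancel]
  exact Nat.pos_of_ne_zero (right_ne_zero_of_mul hN)

/-- Congruent matrices have isomorphic groups. -/
theorem pres_equiv_congr {G : Matrix ι ι F} {B : Matrix κ κ F} (e : ι ≃ κ) (a : Matrix ι ι F) (ha : IsUnit a.det)
    {c : F} (hc : c ≠ 0) (h : aᵀ * B.submatrix e e * a = c • G) : Nonempty (↥(pres G) ≃* ↥(pres B)) := by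
  obtain ⟨φ, -⟩ := pres_equiv (G := G) (B := B) (a.submatrix e.symm id) (a⁻¹.submatrix id e.symm)
    (by rw [← Matrix.submatrix_mul _ _ _ _ _ Function.bijective_id, Matrix.mul_nonsing_inv _ ha,
      Matrix.submatrix_one_equiv])
    (by rw [Matrix.submatrix_mul_equiv, Matrix.submatrix_id_id, Matrix.nonsing_inv_mul _ ha]) hc (by
      rw [← h]
      conv_lhs => rw [show B = (B.submatrix e e).submatrix e.symm e.symm by simp [Matrix.submatrix_submatrix]]
      rw [Matrix.transpose_submatrix, Matrix.submatrix_mul_equiv, Matrix.submatrix_mul_equiv, Matrix.submatrix_id_id])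
  exact ⟨φ⟩

theorem sympl_equiv (k : ℕ) :
    Nonempty (↥(Matrix.symplecticGroup (Fin k) F) ≃* ↥(pres (Matrix.J (Fin k) F))) := by
  let f : ↥(Matrix.symplecticGroup (Fin k) F) →* GL (Fin k ⊕ Fin k) F :=
    MonoidHom.toHomUnits (Submonoid.subtype _)
  have hf : Function.Injective f := fun x y h => Subtype.ext (congrArg Units.val h :)
  have hr : ∀ x, f x ∈ pres (Matrix.J (Fin k) F) := fun x => mem_pres.2 (SymplecticGroup.mem_iff'.1 x.2)
  refine ⟨MulEquiv.ofBijective (f.codRestrict _ hr) ⟨fun x y h => hf (congrArg Subtype.val h :), fun u => ?_⟩⟩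
  exact ⟨⟨u.1.1, SymplecticGroup.mem_iff'.2 u.2⟩, Subtype.ext (Units.ext rfl)⟩

theorem neg_one_ne_one (h2 : (2 : F) ≠ 0) : (-1 : F) ≠ 1 := fun h => h2 (by linear_combination -h)

theorem even_card_of_alt (h2 : (2 : F) ≠ 0) {K : Matrix ι ι F} (hK : Kᵀ = -K) (hKu : IsUnit K.det) :
    Even (Fintype.card ι) := by
  have h := congrArg Matrix.det hK
  rw [Matrix.det_transpose, Matrix.det_neg] at h
  have h1 : (-1 : F) ^ Fintype.card ι = 1 := mul_right_cancel₀ hKu.ne_zero (h.symm.trans (one_mul _).symm)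
  rcases Nat.even_or_odd (Fintype.card ι) with he | ho
  · exact he
  · rw [ho.neg_one_pow] at h1; exact absurd h1 (neg_one_ne_one h2)

/-- An alternating form gives a symplectic group. -/
theorem pres_equiv_sympl (h2 : (2 : F) ≠ 0) {K : Matrix ι ι F} (hK : Kᵀ = -K) (hKu : IsUnit K.det) :
    ∃ k, Fintype.card ι = k + k ∧ Nonempty (↥(Matrix.symplecticGroup (Fin k) F) ≃* ↥(pres K)) := by
  obtain ⟨k, hk⟩ := even_card_of_alt h2 hK hKu
  refine ⟨k, hk, ?_⟩
  obtain ⟨e⟩ : Nonempty (Fin k ⊕ Fin k ≃ ι) := ⟨Fintype.equivOfCardEq (by simp [hk])⟩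
  have hJu : IsUnit (Matrix.J (Fin k) F).det := SymplecticGroup.symplectic_det (SymplecticGroup.J_mem (Fin k) F)
  obtain ⟨a, ha, haB⟩ := CfsgLib.SignedClasses.congr_alt h2 (B := K.submatrix e e) (B' := Matrix.J (Fin k) F)
    (by rw [Matrix.transpose_submatrix, hK, Matrix.submatrix_neg]; rfl) (by rwa [Matrix.det_submatrix_equiv_self])
    (Matrix.J_transpose _ _) hJu
  obtain ⟨φ⟩ := pres_equiv_congr (G := Matrix.J (Fin k) F) (B := K) e a ha one_ne_zero (by rw [one_smul, haB])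
  obtain ⟨ψ⟩ := sympl_equiv (F := F) k
  exact ⟨ψ.trans φ⟩

theorem el_of_alt (h2 : (2 : F) ≠ 0) {K : Matrix ι ι F} (hK : Kᵀ = -K) (hKu : IsUnit K.det) (g : ↥(pres K)) :
    ∃ k, Fintype.card ι = k + k ∧ El F k (orderOf g) := by
  obtain ⟨k, hk, ⟨φ⟩⟩ := pres_equiv_sympl h2 hK hKu
  exact ⟨k, hk, φ.symm g, by rw [MulEquiv.orderOf_eq]⟩

/-- The mean of the powers. -/
noncomputable def avg (x : Matrix ι ι F) (N : ℕ) : Matrix ι ι F := (N : F)⁻¹ • ∑ i ∈ Finset.range N, x ^ i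

theorem avg_facts {G x : Matrix ι ι F} {N : ℕ} (hN : (N : F) ≠ 0) (hx : x ^ N = 1) (hG : xᵀ * G * x = G) :
    x * avg x N = avg x N ∧ avg x N * avg x N = avg x N ∧ (avg x N)ᵀ * G = G * avg x N ∧
      (∀ A : Matrix ι ι F, A * x = x * A → A * avg x N = avg x N * A) ∧
      ∀ v : ι → F, x *ᵥ v = v → avg x N *ᵥ v = v := by
  obtain ⟨S, hS⟩ : ∃ S, S = ∑ i ∈ Finset.range N, x ^ i := ⟨_, rfl⟩
  have hxS : x * S = S := by
    have h := mul_geom_sum x N
    rw [hx, sub_self, ← hS, Matrix.sub_mul, Matrix.one_mul, sub_eq_zero] at h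
    exact h
  have hSx : S * x = S := by
    have h := geom_sum_mul x N
    rw [hx, sub_self, ← hS, Matrix.mul_sub, Matrix.mul_one, sub_eq_zero] at h
    exact h
  have hiS : ∀ i : ℕ, x ^ i * S = S := fun i => by
    induction i with
    | zero => simp
    | succ i ih => rw [pow_succ, Matrix.mul_assoc, hxS, ih]
  have hSS : S * S = (N : F) • S := by
    conv_lhs => arg 1; rw [hS]
    rw [Matrix.sum_mul, Finset.sum_congr rfl fun i _ => hiS i, Finset.sum_const, Finset.card_range, Nat.cast_smul_eq_nsmul]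
  have hGi : ∀ i : ℕ, (x ^ i)ᵀ * G * x ^ i = G := fun i => by
    induction i with
    | zero => simp
    | succ i ih =>
      calc _ = xᵀ * ((x ^ i)ᵀ * G * x ^ i) * x := by rw [pow_succ]; simp only [transpose_mul, Matrix.mul_assoc]
        _ = G := by rw [ih, hG]
  have hST : Sᵀ * G = G * S := by
    rw [hS, Matrix.transpose_sum, Matrix.sum_mul]
    have e : ∀ i ∈ Finset.range N, (x ^ i)ᵀ * G = G * (x ^ (N - 1 - i) * x) := fun i hi => by
      rw [Finset.mem_range] at hi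
      rw [← pow_succ, show N - 1 - i + 1 = N - i by omega]
      conv_rhs => rw [← hGi i]
      rw [Matrix.mul_assoc, ← pow_add, show i + (N - i) = N by omega, hx, Matrix.mul_one]
    rw [Finset.sum_congr rfl e, ← Finset.mul_sum, ← Matrix.sum_mul, Finset.sum_range_reflect (fun j => x ^ j) N, ← hS,
      hSx]
  have hP : avg x N = (N : F)⁻¹ • S := by rw [avg, hS]
  refine ⟨by rw [hP, Matrix.mul_smul, hxS], ?_, by rw [hP, transpose_smul, Matrix.smul_mul, hST, Matrix.mul_smul],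
    fun A hA => ?_, fun v hv => ?_⟩
  · rw [hP, Matrix.smul_mul, Matrix.mul_smul, hSS, smul_smul (N : F)⁻¹ (N : F), inv_mul_cancel₀ hN, one_smul]
  · have hc : Commute A S := by rw [hS]; exact Commute.sum_right _ _ _ fun i _ => Commute.pow_right hA i
    rw [hP, Matrix.mul_smul, Matrix.smul_mul, hc.eq]
  · have hi : ∀ i : ℕ, x ^ i *ᵥ v = v := fun i => by
      induction i with
      | zero => simp
      | succ i ih => rw [pow_succ, ← Matrix.mulVec_mulVec, hv, ih]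
    rw [hP, Matrix.smul_mulVec, hS, Matrix.sum_mulVec, Finset.sum_congr rfl fun i _ => hi i, Finset.sum_const,
      Finset.card_range, ← Nat.cast_smul_eq_nsmul F, smul_smul, inv_mul_cancel₀ hN, one_smul]

theorem pres_restrict {m : Type*} [Fintype m] [DecidableEq m] {G : Matrix ι ι F} {g : GL ι F} (hg : g ∈ pres G)
    {M : Matrix ι m F} (hM : IsUnit (Mᵀ * G * M).det) {A : Matrix m m F} (hA : g.1 * M = M * A) :
    ∃ u : GL m F, u.1 = A ∧ u ∈ pres (Mᵀ * G * M) := by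
  have h : Aᵀ * (Mᵀ * G * M) * A = Mᵀ * G * M := by
    calc _ = (M * A)ᵀ * G * (M * A) := by simp only [transpose_mul, Matrix.mul_assoc]
      _ = Mᵀ * (g.1ᵀ * G * g.1) * M := by rw [← hA]; simp only [transpose_mul, Matrix.mul_assoc]
      _ = _ := by rw [mem_pres.1 hg]
  have hdet : IsUnit A.det := by
    have := congrArg Matrix.det h
    rw [Matrix.det_mul, Matrix.det_mul, Matrix.det_transpose] at this
    rw [isUnit_iff_ne_zero]
    intro h0
    rw [h0, zero_mul, zero_mul] at this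
    exact hM.ne_zero this.symm
  exact ⟨Matrix.nonsingInvUnit A hdet, rfl, h⟩

/-- `y - y⁻¹` is invertible without fixed vectors in odd order. -/
theorem isUnit_det_sub_inv {y : GL ι F} {N : ℕ} (hN : Odd N) (hyN : y ^ N = 1)
    (hfix : ∀ v, y.1 *ᵥ v = v → v = 0) : IsUnit (y.1 - y⁻¹.1).det := by
  refine isUnit_iff_ne_zero.2 fun h0 => ?_
  obtain ⟨v, hv0, hv⟩ := Matrix.exists_mulVec_eq_zero_iff.mpr h0
  rw [Matrix.sub_mulVec, sub_eq_zero] at hv
  have h1 : y.1 * y⁻¹.1 = 1 := by rw [← Units.val_mul, mul_inv_cancel, Units.val_one]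
  have h3 : (y.1 ^ 2) *ᵥ v = v := by rw [sq, ← Matrix.mulVec_mulVec, hv, Matrix.mulVec_mulVec, h1, Matrix.one_mulVec]
  obtain ⟨j, hj⟩ := hN
  refine hv0 (hfix v ?_)
  have h4 : ∀ i : ℕ, (y.1 ^ (2 * i)) *ᵥ v = v := fun i => by
    induction i with
    | zero => simp
    | succ i ih => rw [Nat.mul_succ, pow_add, ← Matrix.mulVec_mulVec, h3, ih]
  have h5 : y.1 ^ N = 1 := by rw [← Units.val_pow_eq_pow_val, hyN, Units.val_one]
  conv_lhs => rw [← h4 j]
  rw [Matrix.mulVec_mulVec, ← pow_succ', ← hj, h5, Matrix.one_mulVec]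

/-- On a space without fixed vectors of an element of odd order, every symmetric or alternating form gives an
alternating one with at least the same centraliser. -/
theorem exists_alt {G : Matrix ι ι F} (hGu : IsUnit G.det) (hGs : Gᵀ = G ∨ Gᵀ = -G) {y : GL ι F}
    (hy : y ∈ pres G) {N : ℕ} (hN : Odd N) (hyN : y ^ N = 1) (hfix : ∀ v, y.1 *ᵥ v = v → v = 0) :
    ∃ K : Matrix ι ι F, Kᵀ = -K ∧ IsUnit K.det ∧ ∀ u ∈ pres G, u * y = y * u → u ∈ pres K := by
  rcases hGs with hGs | hGs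
  swap; · exact ⟨G, hGs, hGu, fun u hu _ => hu⟩
  have h1 : y.1 * y⁻¹.1 = 1 := by rw [← Units.val_mul, mul_inv_cancel, Units.val_one]
  have hmove : y.1ᵀ * G = G * y⁻¹.1 := by
    conv_rhs => rw [← mem_pres.1 hy]
    rw [Matrix.mul_assoc _ y.1, h1, Matrix.mul_one]
  have hmove' : y⁻¹.1ᵀ * G = G * y.1 := by
    conv_lhs => rw [← mem_pres.1 hy]
    rw [← Matrix.mul_assoc, ← Matrix.mul_assoc, ← transpose_mul, h1, transpose_one, Matrix.one_mul]
  refine ⟨G * (y.1 - y⁻¹.1), ?_, ?_, fun u hu hc => mem_pres.2 ?_⟩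
  · rw [transpose_mul, transpose_sub, hGs, Matrix.sub_mul, hmove, hmove', Matrix.mul_sub, neg_sub]
  · rw [Matrix.det_mul]
    exact hGu.mul (isUnit_det_sub_inv hN hyN hfix)
  · have hc1 : (y.1 - y⁻¹.1) * u.1 = u.1 * (y.1 - y⁻¹.1) := by
      have e1 : y.1 * u.1 = u.1 * y.1 := congrArg Units.val hc.symm
      have e2 : y⁻¹.1 * u.1 = u.1 * y⁻¹.1 := congrArg Units.val ((Commute.inv_right hc).symm.eq)
      rw [Matrix.sub_mul, Matrix.mul_sub, e1, e2]
    calc _ = u.1ᵀ * G * ((y.1 - y⁻¹.1) * u.1) := by simp only [Matrix.mul_assoc]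
      _ = (u.1ᵀ * G * u.1) * (y.1 - y⁻¹.1) := by rw [hc1]; simp only [Matrix.mul_assoc]
      _ = _ := by rw [mem_pres.1 hu]

/-- The data of the splitting of an element along its fixed space. -/
theorem exists_fix_split {G : Matrix ι ι F} (hGu : IsUnit G.det) {g : GL ι F} (hg : g ∈ pres G) {N : ℕ}
    (hN : (N : F) ≠ 0) (hgN : g ^ N = 1) :
    ∃ (a b : ℕ) (M₁ : Matrix ι (Fin a) F) (M₂ : Matrix ι (Fin b) F) (y : GL (Fin b) F),
      a + b = Fintype.card ι ∧ Function.Injective M₁.mulVec ∧ Function.Injective M₂.mulVec ∧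
      IsUnit (M₁ᵀ * G * M₁).det ∧ IsUnit (M₂ᵀ * G * M₂).det ∧ g.1 * M₁ = M₁ ∧ g.1 * M₂ = M₂ * y.1 ∧
      y ∈ pres (M₂ᵀ * G * M₂) ∧ (∀ v, y.1 *ᵥ v = v → v = 0) ∧ orderOf y = orderOf g ∧
      (∀ A B : Matrix ι ι F, A * M₁ = B * M₁ → A * M₂ = B * M₂ → A = B) ∧
      ∀ u : GL ι F, u ∈ pres G → u * g = g * u → ∃ (u₁ : GL (Fin a) F) (u₂ : GL (Fin b) F),
        u.1 * M₁ = M₁ * u₁.1 ∧ u.1 * M₂ = M₂ * u₂.1 ∧ u₁ ∈ pres (M₁ᵀ * G * M₁) ∧ u₂ ∈ pres (M₂ᵀ * G * M₂) ∧
          u₂ * y = y * u₂ := by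
  have hx : g.1 ^ N = 1 := by rw [← Units.val_pow_eq_pow_val, hgN, Units.val_one]
  obtain ⟨hxP, hPP, hPG, hcomm, hfix⟩ := avg_facts hN hx (mem_pres.1 hg)
  obtain ⟨a, b, M₁, M₂, hab, hM₁, hM₂, e1, e2, hu1, hu2, hres, hext, -⟩ := exists_split hGu hPP hPG
  have hgM₁ : g.1 * M₁ = M₁ := by rw [← e1, ← Matrix.mul_assoc, hxP]
  obtain ⟨-, Y, hY⟩ := hres _ (hcomm _ rfl)
  obtain ⟨y, rfl, hy⟩ := pres_restrict hg hu2 hY
  have hord : orderOf y = orderOf g := orderOf_eq_orderOf_iff.2 fun k => by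
    constructor <;> intro h
    · refine Units.ext ((hext _ 1 ?_ ?_).trans rfl)
      · rw [Units.val_pow_eq_pow_val, Matrix.one_mul, restrict_pow (A' := 1) (by rw [Matrix.mul_one]; exact hgM₁),
          one_pow, Matrix.mul_one]
      · rw [Units.val_pow_eq_pow_val, Matrix.one_mul, restrict_pow hY, ← Units.val_pow_eq_pow_val, h, Units.val_one,
          Matrix.mul_one]
    · refine Units.ext (mul_left_inj_of_injective hM₂ ?_)
      rw [Units.val_pow_eq_pow_val, ← restrict_pow hY, ← Units.val_pow_eq_pow_val, h, Units.val_one, Units.val_one,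
        Matrix.one_mul, Matrix.mul_one]
  refine ⟨a, b, M₁, M₂, y, hab, hM₁, hM₂, hu1, hu2, hgM₁, hY, hy, fun v hv => hM₂ ?_, hord, hext, fun u hu hc => ?_⟩
  · have h3 : g.1 *ᵥ (M₂ *ᵥ v) = M₂ *ᵥ v := by rw [Matrix.mulVec_mulVec, hY, ← Matrix.mulVec_mulVec, hv]
    rw [← hfix _ h3, Matrix.mulVec_mulVec, e2, Matrix.zero_mulVec, Matrix.mulVec_zero]
  · have hc' : u.1 * g.1 = g.1 * u.1 := congrArg Units.val hc
    obtain ⟨⟨U₁, hU₁⟩, U₂, hU₂⟩ := hres _ (hcomm _ hc')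
    obtain ⟨u₁, rfl, hu₁⟩ := pres_restrict hu hu1 hU₁
    obtain ⟨u₂, rfl, hu₂⟩ := pres_restrict hu hu2 hU₂
    refine ⟨u₁, u₂, hU₁, hU₂, hu₁, hu₂, Units.ext (mul_left_inj_of_injective hM₂ ?_)⟩
    rw [Units.val_mul, Units.val_mul, ← restrict_mul hU₂ hY, ← restrict_mul hY hU₂, hc']

theorem restricted_transpose {m : Type*} [Fintype m] [DecidableEq m] {G : Matrix ι ι F} (hGs : Gᵀ = G ∨ Gᵀ = -G)
    (M : Matrix ι m F) : (Mᵀ * G * M)ᵀ = Mᵀ * G * M ∨ (Mᵀ * G * M)ᵀ = -(Mᵀ * G * M) := by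
  rcases hGs with h | h
  · left; rw [transpose_mul, transpose_mul, transpose_transpose, h, Matrix.mul_assoc]
  · right; rw [transpose_mul, transpose_mul, transpose_transpose, h, Matrix.mul_assoc, Matrix.neg_mul, Matrix.mul_neg]

theorem orderOf_val {G : Matrix ι ι F} (g : ↥(pres G)) : orderOf g.1 = orderOf g :=
  orderOf_injective (pres G).subtype Subtype.val_injective g

theorem natCast_ne_zero_of_coprime {p : ℕ} [Fact p.Prime] [CharP F p] {N : ℕ} (h : ¬ p ∣ N) : (N : F) ≠ 0 := by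
  rwa [Ne, CharP.cast_eq_zero_iff F p]

/-- An element of odd order prime to the characteristic lives in a symplectic group on its moved space. -/
theorem el_of_pres (h2 : (2 : F) ≠ 0) {G : Matrix ι ι F} (hGu : IsUnit G.det) (hGs : Gᵀ = G ∨ Gᵀ = -G) (g : ↥(pres G))
    (hodd : Odd (orderOf g)) (hN : ((orderOf g : ℕ) : F) ≠ 0) :
    ∃ k a : ℕ, a + (k + k) = Fintype.card ι ∧ El F k (orderOf g) ∧ (a = 0 → ∀ v, g.1.1 *ᵥ v = v → v = 0) := by
  obtain ⟨a, b, M₁, M₂, y, hab, -, hM₂, -, hu2, hgM₁, hY, hy, hfix, hord, hext, -⟩ :=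
    exists_fix_split hGu g.2 hN (by rw [← orderOf_val, pow_orderOf_eq_one])
  rw [orderOf_val] at hord
  obtain ⟨K, hK, hKu, hpres⟩ := exists_alt hu2 (restricted_transpose hGs M₂) hy hodd
    (by rw [← hord, pow_orderOf_eq_one]) hfix
  obtain ⟨k, hk, hel⟩ := el_of_alt h2 hK hKu ⟨y, hpres y hy rfl⟩
  rw [← orderOf_val, hord] at hel
  rw [Fintype.card_fin] at hk
  refine ⟨k, a, by omega, hel, fun ha v hv => ?_⟩
  obtain ⟨c, rfl⟩ := ((Fintype.bijective_iff_injective_and_card _).2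
    ⟨hM₂, by simp only [Fintype.card_fun, Fintype.card_fin]; congr 1; omega⟩).2 v
  rw [Matrix.mulVec_mulVec, hY, ← Matrix.mulVec_mulVec] at hv
  rw [hfix c (hM₂ hv), Matrix.mulVec_zero]

section Block

variable {G₁ : Matrix ι ι F} {G₂ : Matrix κ κ F}

/-- Block diagonal elements. -/
def blockHom (G₁ : Matrix ι ι F) (G₂ : Matrix κ κ F) :
    ↥(pres G₁) × ↥(pres G₂) →* ↥(pres (Matrix.fromBlocks G₁ 0 0 G₂)) :=
  MonoidHom.codRestrict
    (MonoidHom.toHomUnits
      { toFun := fun z : ↥(pres G₁) × ↥(pres G₂) => Matrix.fromBlocks z.1.1.1 0 0 z.2.1.1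
        map_one' := by simp
        map_mul' := fun z w => by simp [Matrix.fromBlocks_multiply] })
    _ fun z => by
      rw [mem_pres, MonoidHom.coe_toHomUnits]
      simp [Matrix.fromBlocks_transpose, Matrix.fromBlocks_multiply, mem_pres.1 z.1.2, mem_pres.1 z.2.2]

theorem blockHom_apply (z : ↥(pres G₁) × ↥(pres G₂)) :
    (blockHom G₁ G₂ z).1.1 = Matrix.fromBlocks z.1.1.1 0 0 z.2.1.1 := rfl

theorem blockHom_injective : Function.Injective (blockHom G₁ G₂) := fun z w h => by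
  have h' := congrArg (fun u : ↥(pres (Matrix.fromBlocks G₁ 0 0 G₂)) => u.1.1) h
  simp only [blockHom_apply, Matrix.fromBlocks_inj] at h'
  exact Prod.ext (Subtype.ext (Units.ext h'.1)) (Subtype.ext (Units.ext h'.2.2.2))

theorem orderOf_blockHom (g : ↥(pres G₁)) (h : ↥(pres G₂)) :
    orderOf (blockHom G₁ G₂ (g, h)) = Nat.lcm (orderOf g) (orderOf h) := by
  rw [orderOf_injective (blockHom G₁ G₂) blockHom_injective, Prod.orderOf_mk]

theorem fromBlocks_symm (h₁ : G₁ᵀ = G₁) (h₂ : G₂ᵀ = G₂) :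
    (Matrix.fromBlocks G₁ 0 0 G₂)ᵀ = Matrix.fromBlocks G₁ 0 0 G₂ := by
  rw [Matrix.fromBlocks_transpose, h₁, h₂, transpose_zero, transpose_zero]

theorem fromBlocks_unit (h₁ : IsUnit G₁.det) (h₂ : IsUnit G₂.det) : IsUnit (Matrix.fromBlocks G₁ 0 0 G₂).det := by
  rw [Matrix.det_fromBlocks_zero₁₂]; exact h₁.mul h₂

end Block

/-- A symplectic element of odd order prime to the characteristic is orthogonal for some symmetric form. -/
theorem exists_sym_of_el {k N : ℕ} (h : El F k N) (hodd : Odd N) (hN : (N : F) ≠ 0) :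
    ∃ (H : Matrix (Fin k ⊕ Fin k) (Fin k ⊕ Fin k) F), Hᵀ = H ∧ IsUnit H.det ∧ ∃ g : ↥(pres H), orderOf g = N := by
  obtain ⟨x, hx⟩ := h
  obtain ⟨φ⟩ := sympl_equiv (F := F) k
  have hJu : IsUnit (Matrix.J (Fin k) F).det := SymplecticGroup.symplectic_det (SymplecticGroup.J_mem (Fin k) F)
  have hord : orderOf (φ x).1 = N := by rw [orderOf_val, MulEquiv.orderOf_eq, hx]
  obtain ⟨a, b, M₁, M₂, y, hab, -, -, -, hu2, -, -, hy, hfix, hyo, -, -⟩ :=
    exists_fix_split hJu (φ x).2 hN (by rw [← hord, pow_orderOf_eq_one])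
  rw [hord] at hyo
  obtain ⟨G2, hG2⟩ : ∃ G2, G2 = M₂ᵀ * Matrix.J (Fin k) F * M₂ := ⟨_, rfl⟩
  rw [← hG2] at hu2 hy
  have hG2t : G2ᵀ = -G2 := by
    rw [hG2, transpose_mul, transpose_mul, transpose_transpose, Matrix.J_transpose, Matrix.mul_assoc, Matrix.neg_mul,
      Matrix.mul_neg]
  have h1 : y.1 * y⁻¹.1 = 1 := by rw [← Units.val_mul, mul_inv_cancel, Units.val_one]
  have hmove : y.1ᵀ * G2 = G2 * y⁻¹.1 := by
    conv_rhs => rw [← mem_pres.1 hy]
    rw [Matrix.mul_assoc _ y.1, h1, Matrix.mul_one]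
  have hmove' : y⁻¹.1ᵀ * G2 = G2 * y.1 := by
    conv_lhs => rw [← mem_pres.1 hy]
    rw [← Matrix.mul_assoc, ← Matrix.mul_assoc, ← transpose_mul, h1, transpose_one, Matrix.one_mul]
  obtain ⟨D, hD⟩ : ∃ D, D = G2 * (y.1 - y⁻¹.1) := ⟨_, rfl⟩
  have hDt : Dᵀ = D := by
    rw [hD, transpose_mul, transpose_sub, hG2t, Matrix.mul_neg, Matrix.sub_mul, hmove, hmove', Matrix.mul_sub, neg_sub]
  have hDu : IsUnit D.det := by
    rw [hD, Matrix.det_mul]
    exact hu2.mul (isUnit_det_sub_inv hodd (by rw [← hyo, pow_orderOf_eq_one]) hfix)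
  have hyD : y ∈ pres D := mem_pres.2 (by
    have hc : (y.1 - y⁻¹.1) * y.1 = y.1 * (y.1 - y⁻¹.1) := by
      rw [Matrix.sub_mul, Matrix.mul_sub, ← Units.val_mul y⁻¹ y, inv_mul_cancel, Units.val_one, h1]
    calc _ = y.1ᵀ * G2 * ((y.1 - y⁻¹.1) * y.1) := by rw [hD]; simp only [Matrix.mul_assoc]
      _ = (y.1ᵀ * G2 * y.1) * (y.1 - y⁻¹.1) := by rw [hc]; simp only [Matrix.mul_assoc]
      _ = _ := by rw [mem_pres.1 hy, hD])
  obtain ⟨H, hH⟩ : ∃ H, H = Matrix.fromBlocks (1 : Matrix (Fin a) (Fin a) F) 0 0 D := ⟨_, rfl⟩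
  obtain ⟨e⟩ : Nonempty (Fin k ⊕ Fin k ≃ Fin a ⊕ Fin b) :=
    ⟨Fintype.equivOfCardEq (by simp only [Fintype.card_sum, Fintype.card_fin] at hab ⊢; omega)⟩
  refine ⟨H.submatrix e e, ?_, ?_, ?_⟩
  · rw [Matrix.transpose_submatrix, hH, fromBlocks_symm transpose_one hDt]
  · rw [Matrix.det_submatrix_equiv_self, hH]; exact fromBlocks_unit (by simp) hDu
  obtain ⟨ψ⟩ := pres_equiv_congr (G := H.submatrix e e) (B := H) e 1 (by simp) one_ne_zero (by simp)
  subst hH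
  refine ⟨ψ.symm (blockHom 1 D (1, ⟨y, hyD⟩)), ?_⟩
  rw [MulEquiv.orderOf_eq, orderOf_blockHom, orderOf_one, Nat.lcm_one_left, ← orderOf_val, hyo]

end CfsgLib.PrimeGraphBC
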