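import Cfsg.Prelude.Def_Classical
import Cfsg.Agent.Forms.Matrix
import Cfsg.Agent.Forms.GeoBridge
import Cfsg.Agent.Forms.Standard
import Cfsg.Agent.SignedClasses.Congr

/-!
Groups preserving a bilinear matrix: transport, orthogonal splittings along a self-adjoint idempotent.
-/

set_option autoImplicit false
set_option linter.unusedSectionVars false

namespace CfsgLib.PrimeGraphBC

open Matrix QuadraticMap
open scoped Classical

variable {F : Type*} [Field F]
variable {ι κ : Type*} [Fintype ι] [DecidableEq ι] [Fintype κ] [DecidableEq κ]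

/-- The matrices preserving `G`. -/
def pres (G : Matrix ι ι F) : Subgroup (GL ι F) where
  carrier := {g | g.1ᵀ * G * g.1 = G}
  one_mem' := by simp
  mul_mem' := by
    intro a b ha hb
    show (a.1 * b.1)ᵀ * G * (a.1 * b.1) = G
    calc _ = b.1ᵀ * (a.1ᵀ * G * a.1) * b.1 := by simp only [transpose_mul, Matrix.mul_assoc]
      _ = G := by rw [show a.1ᵀ * G * a.1 = G from ha]; exact hb
  inv_mem' := by
    intro a ha
    show a⁻¹.1ᵀ * G * a⁻¹.1 = G
    conv_lhs => rw [← (show a.1ᵀ * G * a.1 = G from ha)]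
    have h1 : a.1 * a⁻¹.1 = 1 := by rw [← Units.val_mul, mul_inv_cancel, Units.val_one]
    calc _ = (a.1 * a⁻¹.1)ᵀ * G * (a.1 * a⁻¹.1) := by simp only [transpose_mul, Matrix.mul_assoc]
      _ = G := by rw [h1, transpose_one, Matrix.one_mul, Matrix.mul_one]

theorem mem_pres {G : Matrix ι ι F} {g : GL ι F} : g ∈ pres G ↔ g.1ᵀ * G * g.1 = G := Iff.rfl

/-- Congruent forms, up to a scalar and a bijection of indices, have isomorphic groups. -/
theorem pres_equiv {G : Matrix ι ι F} {B : Matrix κ κ F} (a : Matrix κ ι F) (b : Matrix ι κ F) (hab : a * b = 1)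
    (hba : b * a = 1) {c : F} (hc : c ≠ 0) (h : aᵀ * B * a = c • G) :
    ∃ φ : ↥(pres G) ≃* ↥(pres B), ∀ g, (φ g).1.1 = a * g.1.1 * b := by
  have hab' : bᵀ * aᵀ = 1 := by rw [← transpose_mul, hab, transpose_one]
  have hG : G = c⁻¹ • (aᵀ * B * a) := by rw [h, smul_smul, inv_mul_cancel₀ hc, one_smul]
  have hB : B = c • (bᵀ * G * b) := by
    calc B = (bᵀ * aᵀ) * B * (a * b) := by rw [hab, hab', Matrix.one_mul, Matrix.mul_one]
      _ = bᵀ * (aᵀ * B * a) * b := by simp only [Matrix.mul_assoc]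
      _ = _ := by rw [h, Matrix.mul_smul, Matrix.smul_mul]
  have e1 : ∀ x : Matrix ι ι F, b * (a * x) = x := fun x => by rw [← Matrix.mul_assoc, hba, Matrix.one_mul]
  have e2 : ∀ x : Matrix κ κ F, a * (b * x) = x := fun x => by rw [← Matrix.mul_assoc, hab, Matrix.one_mul]
  have e1' : ∀ x : Matrix ι κ F, b * (a * x) = x := fun x => by rw [← Matrix.mul_assoc, hba, Matrix.one_mul]
  have e2' : ∀ x : Matrix κ ι F, a * (b * x) = x := fun x => by rw [← Matrix.mul_assoc, hab, Matrix.one_mul]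
  let Φ : Matrix ι ι F ≃* Matrix κ κ F :=
    { toFun := fun x => a * x * b
      invFun := fun y => b * y * a
      left_inv := fun x => by simp only [Matrix.mul_assoc, e1, hba, Matrix.mul_one]
      right_inv := fun y => by simp only [Matrix.mul_assoc, e2, hab, Matrix.mul_one]
      map_mul' := fun x y => by simp only [Matrix.mul_assoc, e1'] }
  have hmem : ∀ u : GL ι F, u ∈ pres G ↔ Units.mapEquiv Φ u ∈ pres B := by
    intro u
    show u.1ᵀ * G * u.1 = G ↔ (a * u.1 * b)ᵀ * B * (a * u.1 * b) = B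
    have e : (a * u.1 * b)ᵀ * B * (a * u.1 * b) = c • (bᵀ * (u.1ᵀ * G * u.1) * b) := by
      calc _ = bᵀ * (u.1ᵀ * (aᵀ * B * a) * u.1) * b := by simp only [transpose_mul, Matrix.mul_assoc]
        _ = _ := by rw [h]; simp only [Matrix.mul_smul, Matrix.smul_mul]
    rw [e]
    refine ⟨fun hu => by rw [hu, ← hB], fun hu => ?_⟩
    have h2 : aᵀ * (c • (bᵀ * (u.1ᵀ * G * u.1) * b)) * a = aᵀ * B * a := by rw [hu]
    rw [Matrix.mul_smul, Matrix.smul_mul, h] at h2
    have h3 : aᵀ * (bᵀ * (u.1ᵀ * G * u.1) * b) * a = u.1ᵀ * G * u.1 := by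
      calc _ = (aᵀ * bᵀ) * (u.1ᵀ * G * u.1) * (b * a) := by simp only [Matrix.mul_assoc]
        _ = _ := by rw [← transpose_mul, hba, transpose_one, Matrix.one_mul, Matrix.mul_one]
    rw [h3] at h2
    exact smul_right_injective _ hc h2
  refine ⟨((Units.mapEquiv Φ).subgroupMap (pres G)).trans (MulEquiv.subgroupCongr ?_), fun g => rfl⟩
  ext v
  constructor
  · rintro ⟨u, hu, rfl⟩; exact (hmem u).1 hu
  · intro hv
    exact ⟨(Units.mapEquiv Φ).symm v, (hmem _).2 (by rwa [MulEquiv.apply_symm_apply]), MulEquiv.apply_symm_apply _ v⟩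

/-- The quadratic form `v ↦ vᵀ B v`. -/
noncomputable def formQ {ι : Type} [Fintype ι] [DecidableEq ι] (B : Matrix ι ι F) : QuadraticForm F (ι → F) :=
  LinearMap.BilinMap.toQuadraticMap (Matrix.toBilin' B)

theorem formQ_apply {ι : Type} [Fintype ι] [DecidableEq ι] (B : Matrix ι ι F) (v : ι → F) :
    formQ B v = v ⬝ᵥ (B *ᵥ v) := by
  rw [formQ, LinearMap.BilinMap.toQuadraticMap_apply, Matrix.toBilin'_apply']

/-- An isometry group is the group preserving the polar matrix. -/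
theorem isometryGroup_eq {ι : Type} [Fintype ι] [DecidableEq ι] (h2 : (2 : F) ≠ 0) (Q : QuadraticForm F (ι → F))
    (M : Matrix ι ι F) (hM : ∀ u v, u ⬝ᵥ (M *ᵥ v) = polar Q u v) : Cfsg.isometryGroup F ⇑Q = pres M := by
  ext a
  rw [CfsgLib.Forms.mem_isometryGroup, mem_pres]
  have key : ∀ u v, u ⬝ᵥ ((a.1ᵀ * M * a.1) *ᵥ v) = polar Q (a.1 *ᵥ u) (a.1 *ᵥ v) := fun u v => by
    rw [← hM, ← Matrix.mulVec_mulVec, ← Matrix.mulVec_mulVec, Matrix.dotProduct_mulVec u, Matrix.vecMul_transpose]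
  refine ⟨fun h => Matrix.ext fun i l => ?_, fun h v => ?_⟩
  · have h3 := key (Pi.single i 1) (Pi.single l 1)
    rw [show polar (⇑Q) (a.1 *ᵥ Pi.single i 1) (a.1 *ᵥ Pi.single l 1) = polar Q (Pi.single i 1) (Pi.single l 1) by
      simp only [polar, ← Matrix.mulVec_add, h], ← hM] at h3
    simpa using h3
  · have h3 := key v v
    rw [h, hM, polar_self, polar_self, nsmul_eq_mul, nsmul_eq_mul] at h3
    exact (mul_left_cancel₀ (by exact_mod_cast h2) h3).symm

theorem polar_formQ {ι : Type} [Fintype ι] [DecidableEq ι] {B : Matrix ι ι F} (hB : Bᵀ = B) (u v : ι → F) :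
    u ⬝ᵥ (((2 : F) • B) *ᵥ v) = polar (formQ B) u v := by
  have hsymm : v ⬝ᵥ (B *ᵥ u) = u ⬝ᵥ (B *ᵥ v) := by
    rw [Matrix.dotProduct_mulVec, ← Matrix.mulVec_transpose, hB, dotProduct_comm]
  rw [formQ, LinearMap.BilinMap.polar_toQuadraticMap, Matrix.toBilin'_apply', Matrix.toBilin'_apply', hsymm,
    Matrix.smul_mulVec, dotProduct_smul, smul_eq_mul]
  ring

theorem nondegenerate_formQ {ι : Type} [Fintype ι] [DecidableEq ι] (h2 : (2 : F) ≠ 0) {B : Matrix ι ι F} (hB : Bᵀ = B)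
    (hBu : IsUnit B.det) : (polarBilin (formQ B)).Nondegenerate := CfsgLib.Forms.nondegenerate_iff.2 fun v hv => by
  by_contra hv0
  refine hBu.ne_zero (Matrix.exists_mulVec_eq_zero_iff.mp ⟨v, hv0, funext fun i => ?_⟩)
  have h := hv (Pi.single i 1)
  rw [polar_comm, ← polar_formQ hB, Matrix.smul_mulVec, dotProduct_smul, smul_eq_mul] at h
  simpa [h2] using h

theorem pres_smul {G : Matrix ι ι F} {c : F} (hc : c ≠ 0) : pres (c • G) = pres G := by
  ext u
  rw [mem_pres, mem_pres, Matrix.mul_smul, Matrix.smul_mul]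
  exact ⟨fun h => smul_right_injective _ hc h, fun h => by rw [h]⟩

theorem pres_eq_isometryGroup {ι : Type} [Fintype ι] [DecidableEq ι] (h2 : (2 : F) ≠ 0) {B : Matrix ι ι F}
    (hB : Bᵀ = B) : Cfsg.isometryGroup F ⇑(formQ B) = pres B := by
  rw [isometryGroup_eq h2 (formQ B) ((2 : F) • B) (polar_formQ hB), pres_smul h2]

/-- Squares lie in the commutator subgroup of an orthogonal group. -/
theorem sq_mem_commutator [Finite F] {ι : Type} [Fintype ι] [DecidableEq ι] (h2 : (2 : F) ≠ 0) {B : Matrix ι ι F}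
    (hB : Bᵀ = B) (hBu : IsUnit B.det) (hdim : 2 ≤ Fintype.card ι) (g : ↥(pres B)) : g ^ 2 ∈ commutator ↥(pres B) := by
  revert g
  rw [← pres_eq_isometryGroup h2 hB]
  intro g
  refine (CfsgLib.Forms.mem_Omega_iff_kernels _ h2 (nondegenerate_formQ h2 hB hBu) hdim _).2 ⟨?_, ?_⟩ <;>
    · rw [map_pow, map_pow]; exact Int.units_sq _

theorem mem_commutator_map {A B : Type*} [Group A] [Group B] (e : A ≃* B) {x : A} (hx : x ∈ commutator A) :
    e x ∈ commutator B := by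
  have h : (commutator A).map (e : A →* B) = commutator B := by
    rw [commutator_def, commutator_def, Subgroup.map_commutator, Subgroup.map_top_of_surjective _ e.surjective]
  rw [← h]
  exact Subgroup.mem_map_of_mem _ hx

/-- Elements of odd order lie in the commutator subgroup once all squares do. -/
theorem odd_mem_of_sq_mem {A : Type*} [Group A] {H : Subgroup A} (h : ∀ g : A, g ^ 2 ∈ H) {g : A}
    (hg : Odd (orderOf g)) : g ∈ H := by
  obtain ⟨k, hk⟩ := hg
  have : g = (g ^ 2)⁻¹ ^ k := by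
    rw [inv_pow, ← pow_mul, eq_inv_iff_mul_eq_one, ← pow_succ', ← hk, pow_orderOf_eq_one]
  rw [this]
  exact pow_mem (inv_mem (h g)) k

section Rect

variable {m : Type*} [Fintype m] [DecidableEq m]

/-- A basis matrix of a subspace. -/
theorem exists_basisMatrix (U : Submodule F (ι → F)) {t : ℕ} (ht : Module.finrank F U = t) :
    ∃ M : Matrix ι (Fin t) F, Function.Injective M.mulVec ∧ ∀ v, v ∈ U ↔ ∃ c, M *ᵥ c = v := by
  let bU := (Module.finBasisOfFinrankEq F U ht).equivFun.symm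
  refine ⟨LinearMap.toMatrix' (U.subtype ∘ₗ bU.toLinearMap), ?_, fun v => ⟨fun hv => ⟨bU.symm ⟨v, hv⟩, ?_⟩, ?_⟩⟩
  · intro c d h
    rw [LinearMap.toMatrix'_mulVec, LinearMap.toMatrix'_mulVec] at h
    exact bU.injective (Subtype.ext h)
  · rw [LinearMap.toMatrix'_mulVec]; simp
  · rintro ⟨c, rfl⟩
    rw [LinearMap.toMatrix'_mulVec]
    exact (bU c).2

/-- An endomorphism leaving the column space invariant acts through a matrix. -/
theorem exists_restrict (M : Matrix ι m F) (A : Matrix ι ι F) (h : ∀ c, ∃ d, M *ᵥ d = A *ᵥ (M *ᵥ c)) :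
    ∃ A' : Matrix m m F, A * M = M * A' := by
  choose d hd using h
  refine ⟨(Matrix.of fun j => d (Pi.single j 1))ᵀ, Matrix.ext_of_mulVec_single fun j => ?_⟩
  rw [← Matrix.mulVec_mulVec, ← Matrix.mulVec_mulVec, ← hd]
  congr 1
  ext i
  simp

theorem mul_left_inj_of_injective {k : Type*} [Fintype k] [DecidableEq k] {M : Matrix ι m F}
    (hM : Function.Injective M.mulVec) {A B : Matrix m k F} (h : M * A = M * B) : A = B := by
  refine Matrix.ext_of_mulVec_single fun j => hM ?_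
  rw [Matrix.mulVec_mulVec, Matrix.mulVec_mulVec, h]

theorem restrict_mul {M : Matrix ι m F} {A B : Matrix ι ι F} {A' B' : Matrix m m F} (hA : A * M = M * A')
    (hB : B * M = M * B') : A * B * M = M * (A' * B') := by
  rw [Matrix.mul_assoc, hB, ← Matrix.mul_assoc, hA, Matrix.mul_assoc]

theorem restrict_pow {M : Matrix ι m F} {A : Matrix ι ι F} {A' : Matrix m m F} (hA : A * M = M * A') :
    ∀ k : ℕ, A ^ k * M = M * A' ^ k
  | 0 => by simp
  | k + 1 => by rw [pow_succ, pow_succ, restrict_mul (restrict_pow hA k) hA]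

end Rect

/-- An orthogonal splitting along a self-adjoint idempotent. -/
theorem exists_split {G : Matrix ι ι F} (hG : IsUnit G.det) {P : Matrix ι ι F} (hP : P * P = P) (hPG : Pᵀ * G = G * P) :
    ∃ (a b : ℕ) (M₁ : Matrix ι (Fin a) F) (M₂ : Matrix ι (Fin b) F), a + b = Fintype.card ι ∧
      Function.Injective M₁.mulVec ∧ Function.Injective M₂.mulVec ∧ P * M₁ = M₁ ∧ P * M₂ = 0 ∧
      IsUnit (M₁ᵀ * G * M₁).det ∧ IsUnit (M₂ᵀ * G * M₂).det ∧
      (∀ A : Matrix ι ι F, A * P = P * A → (∃ A₁ : Matrix (Fin a) (Fin a) F, A * M₁ = M₁ * A₁) ∧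
        ∃ A₂ : Matrix (Fin b) (Fin b) F, A * M₂ = M₂ * A₂) ∧
      (∀ A B : Matrix ι ι F, A * M₁ = B * M₁ → A * M₂ = B * M₂ → A = B) ∧
      (∀ (e : ι ≃ Fin a ⊕ Fin b), IsUnit ((Matrix.fromCols M₁ M₂).submatrix id e).det) := by
  have hP1 : ∀ v, P *ᵥ (P *ᵥ v) = P *ᵥ v := fun v => by rw [Matrix.mulVec_mulVec, hP]
  obtain ⟨M₁, hM₁, hU₁⟩ := exists_basisMatrix (LinearMap.range P.mulVecLin) rfl
  obtain ⟨M₂, hM₂, hU₂⟩ := exists_basisMatrix (LinearMap.ker P.mulVecLin) rfl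
  generalize ha : Module.finrank F (LinearMap.range P.mulVecLin) = a at M₁
  generalize hb : Module.finrank F (LinearMap.ker P.mulVecLin) = b at M₂
  have hab : a + b = Fintype.card ι := by
    rw [← ha, ← hb, LinearMap.finrank_range_add_finrank_ker, Module.finrank_fintype_fun_eq_card]
  have e1 : P * M₁ = M₁ := Matrix.ext_of_mulVec_single fun j => by
    obtain ⟨w, hw⟩ := (hU₁ _).2 ⟨Pi.single j 1, rfl⟩
    simp only [Matrix.mulVecLin_apply] at hw
    rw [← Matrix.mulVec_mulVec, ← hw, hP1]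
  have e2 : P * M₂ = 0 := Matrix.ext_of_mulVec_single fun j => by
    rw [← Matrix.mulVec_mulVec, Matrix.zero_mulVec]
    exact (hU₂ _).2 ⟨Pi.single j 1, rfl⟩
  have hc1 : ∀ c, P *ᵥ (M₁ *ᵥ c) = M₁ *ᵥ c := fun c => by rw [Matrix.mulVec_mulVec, e1]
  have hc2 : ∀ c, P *ᵥ (M₂ *ᵥ c) = 0 := fun c => by rw [Matrix.mulVec_mulVec, e2, Matrix.zero_mulVec]
  have hspan : ∀ v, ∃ c d, v = M₁ *ᵥ c + M₂ *ᵥ d := fun v => by
    obtain ⟨c, hc⟩ := (hU₁ (P *ᵥ v)).1 ⟨v, rfl⟩
    obtain ⟨d, hd⟩ := (hU₂ (v - P *ᵥ v)).1 (by simp [Matrix.mulVec_sub, hP1])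
    exact ⟨c, d, by rw [hc, hd]; abel⟩
  have hdet : ∀ (e : ι ≃ Fin a ⊕ Fin b), IsUnit ((Matrix.fromCols M₁ M₂).submatrix id e).det := fun e => by
    rw [isUnit_iff_ne_zero]
    intro h
    obtain ⟨v, hv0, hv⟩ := Matrix.exists_mulVec_eq_zero_iff.mpr h
    obtain ⟨u, hu⟩ : ∃ u : Fin a ⊕ Fin b → F, u = v ∘ e.symm := ⟨_, rfl⟩
    have h1 : Matrix.fromCols M₁ M₂ *ᵥ u = 0 := by
      rw [← hv, hu, Matrix.submatrix_mulVec_equiv]; rfl
    rw [Matrix.fromCols_mulVec] at h1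
    have h3 := congrArg (P *ᵥ ·) h1
    simp only [Matrix.mulVec_add, hc1, hc2, add_zero, Matrix.mulVec_zero] at h3
    have hl : u ∘ Sum.inl = 0 := hM₁ (by rw [h3, Matrix.mulVec_zero])
    rw [h3, zero_add] at h1
    have hr : u ∘ Sum.inr = 0 := hM₂ (by rw [h1, Matrix.mulVec_zero])
    refine hv0 (funext fun i => ?_)
    have hu' : v i = u (e i) := by rw [hu]; simp
    rw [hu']
    rcases e i with j | j
    · exact congrFun hl j
    · exact congrFun hr j
  have hoff : M₁ᵀ * G * M₂ = 0 := by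
    calc _ = (P * M₁)ᵀ * G * M₂ := by rw [e1]
      _ = M₁ᵀ * (Pᵀ * G) * M₂ := by simp only [transpose_mul, Matrix.mul_assoc]
      _ = M₁ᵀ * G * (P * M₂) := by rw [hPG]; simp only [Matrix.mul_assoc]
      _ = 0 := by rw [e2, Matrix.mul_zero]
  have hoff' : M₂ᵀ * G * M₁ = 0 := by
    calc _ = M₂ᵀ * G * (P * M₁) := by rw [e1]
      _ = M₂ᵀ * (G * P) * M₁ := by simp only [Matrix.mul_assoc]
      _ = (P * M₂)ᵀ * G * M₁ := by rw [← hPG]; simp only [transpose_mul, Matrix.mul_assoc]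
      _ = 0 := by rw [e2, transpose_zero, Matrix.zero_mul, Matrix.zero_mul]
  obtain ⟨e⟩ : Nonempty (ι ≃ Fin a ⊕ Fin b) := ⟨Fintype.equivOfCardEq (by simp [hab])⟩
  have hTT := ((Matrix.isUnit_iff_isUnit_det _).2 (hdet e))
  have hblk : IsUnit (M₁ᵀ * G * M₁).det ∧ IsUnit (M₂ᵀ * G * M₂).det := by
    have h : IsUnit ((((Matrix.fromCols M₁ M₂).submatrix id e)ᵀ * G) * (Matrix.fromCols M₁ M₂).submatrix id e).det := by
      rw [Matrix.det_mul, Matrix.det_mul, Matrix.det_transpose]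
      exact ((hdet e).mul hG).mul (hdet e)
    have heq : (((Matrix.fromCols M₁ M₂).submatrix id e)ᵀ * G) * (Matrix.fromCols M₁ M₂).submatrix id e =
        (Matrix.fromBlocks (M₁ᵀ * G * M₁) 0 0 (M₂ᵀ * G * M₂)).submatrix e e := by
      rw [← hoff', ← hoff]
      ext i j
      rw [Matrix.submatrix_apply]
      rcases h1 : e i with a | a <;> rcases h2 : e j with c | c <;> simp [Matrix.mul_apply, h1, h2]
    rw [heq, Matrix.det_submatrix_equiv_self, Matrix.det_fromBlocks_zero₁₂, IsUnit.mul_iff] at h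
    exact h
  refine ⟨a, b, M₁, M₂, hab, hM₁, hM₂, e1, e2, hblk.1, hblk.2, fun A hA => ⟨?_, ?_⟩, fun A B h1 h2 => ?_, hdet⟩
  · refine exists_restrict M₁ A fun c => (hU₁ _).1 ⟨A *ᵥ (M₁ *ᵥ c), ?_⟩
    show P *ᵥ _ = _
    rw [Matrix.mulVec_mulVec, ← hA, ← Matrix.mulVec_mulVec, hc1]
  · refine exists_restrict M₂ A fun c => (hU₂ _).1 ?_
    show P *ᵥ (A *ᵥ (M₂ *ᵥ c)) = 0
    rw [Matrix.mulVec_mulVec, ← hA, ← Matrix.mulVec_mulVec, hc2, Matrix.mulVec_zero]
  · refine Matrix.ext_of_mulVec_single fun j => ?_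
    obtain ⟨c, d, hcd⟩ := hspan (Pi.single j 1)
    rw [hcd, Matrix.mulVec_add, Matrix.mulVec_add, Matrix.mulVec_mulVec, Matrix.mulVec_mulVec, Matrix.mulVec_mulVec,
      Matrix.mulVec_mulVec, h1, h2]

end CfsgLib.PrimeGraphBC
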